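import Cfsg.Agent.H4.Row128
import Cfsg.Agent.Lib.PComponents
import Cfsg.Agent.S0144

/-!
# `T ≤ N_G(L)` if `L/O₂(L)` is quasisimple and `p² ∤ |G|` (helper1)

* `le_normalizer`: `L ∈ ℒ(G, T)`, `L/O₂(L)` quasisimple, `p ∣ |L/O₂(L)|`, `p` odd, `p² ∤ |G|` ⟹ `T ≤ N_G(L)`;
* `of_sq`: the same if `p² ∤ |G|` for all primes `p ≥ 5`.
-/

set_option autoImplicit false

namespace Cfsg.Agent.H1.NormSq

open Subgroup Cfsg Cfsg.Agent.Lib.ComponentSolvable Cfsg.Agent.Lib.PComponents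
open scoped commutatorElement

universe u

variable {G : Type u} [Group G]

/-- the `p`-elements of `L/O₂(L)` lift to `p`-elements of `L` -/
theorem pElem_map {X : Type*} [Group X] [Finite X] {p : ℕ} [Fact p.Prime] (hp2 : p ≠ 2)
    {Q : Type*} [Group Q] (π : X →* Q) (hπ : Function.Surjective π) (hk : IsPGroup 2 π.ker) :
    pElem p (⊤ : Subgroup Q) ≤ (pElem p (⊤ : Subgroup X)).map π := by
  refine (closure_le _).2 ?_
  rintro y ⟨-, n, hn⟩
  obtain ⟨x, rfl⟩ := hπ y
  have h1 : x ^ p ^ n ∈ π.ker := by rw [MonoidHom.mem_ker, map_pow, hn]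
  obtain ⟨k, hk⟩ := hk ⟨_, h1⟩
  have h2 : (x ^ p ^ n) ^ 2 ^ k = 1 := congrArg Subtype.val hk
  have hco : Nat.Coprime (p ^ n) (2 ^ k) :=
    Nat.Coprime.pow n k ((Nat.coprime_primes Fact.out Nat.prime_two).2 hp2)
  obtain ⟨m, hm1, hm2⟩ := Nat.chineseRemainder hco 1 0
  refine ⟨x ^ m, mem_pElem (mem_top _) (n := n) ?_, ?_⟩
  · have h3 : 2 ^ k ∣ m := (Nat.modEq_zero_iff_dvd).1 hm2
    obtain ⟨c, rfl⟩ := h3
    rw [← pow_mul, mul_comm (2 ^ k * c), ← mul_assoc, pow_mul, pow_mul, h2, one_pow]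
  · rw [map_pow]
    have h4 : orderOf (π x) ∣ p ^ n := orderOf_dvd_of_pow_eq_one hn
    have h5 : m ≡ 1 [MOD orderOf (π x)] := hm1.of_dvd h4
    calc π x ^ m = π x ^ 1 := pow_eq_pow_iff_modEq.2 h5
      _ = π x := pow_one _

/-- **`T ≤ N_G(L)`** -/
theorem le_normalizer [Finite G] (T : Sylow 2 G) {L : Subgroup G} (hL : L ∈ calL (T : Subgroup G)) {p : ℕ}
    (hp : p.Prime) (hp2 : p ≠ 2) (hpL : p ∣ Nat.card (↥L ⧸ pCore 2 ↥L)) (hpG : ¬ p * p ∣ Nat.card G)
    (hq : IsQuasisimple (↥L ⧸ pCore 2 ↥L)) : (T : Subgroup G) ≤ normalizer (L : Set G) := by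
  have h2f : Fact (Nat.Prime 2) := ⟨Nat.prime_two⟩
  have hpf : Fact p.Prime := ⟨hp⟩
  set H : Subgroup G := L ⊔ (T : Subgroup G) with hH
  have hLH : L ≤ H := le_sup_left
  have hpL' : p ∣ Nat.card ↥L := hpL.trans (Subgroup.card_quotient_dvd_card _)
  have hidx : Nat.Coprime (L.relIndex H) p := by
    refine Nat.Coprime.symm ?_
    rw [Nat.Prime.coprime_iff_not_dvd hp]
    intro h
    apply hpG
    have h1 := (L.subgroupOf H).card_mul_index
    rw [Nat.card_congr (subgroupOfEquivOfLe hLH).toEquiv] at h1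
    exact (mul_dvd_mul hpL' h).trans (h1 ▸ Subgroup.card_subgroup_dvd_card H)
  have hEL : pElem p H ≤ L := pElem_le_of_isSubnormal (H4.Lf.subnormal hL) hidx
  have hLE : L ≤ pElem p H := by
    have h1 := quasisimple_pElem_top hq hpL
    have hpg : IsPGroup 2 (QuotientGroup.mk' (pCore 2 ↥L)).ker := by
      rw [QuotientGroup.ker_mk']
      exact Cfsg.Agent.Lib.Cores.pCore_isPGroup (G := ↥L) 2
    have h2 := pElem_map hp2 (QuotientGroup.mk' (pCore 2 ↥L)) (QuotientGroup.mk'_surjective _) hpg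
    rw [h1, top_le_iff] at h2
    -- `L = E O₂(L)` with `E` normal
    have hEn : (pElem p (⊤ : Subgroup ↥L)).Normal := by
      rw [← Subgroup.normalizer_eq_top_iff, eq_top_iff]
      refine le_trans ?_ (normalizer_le_normalizer_pElem (p := p) (⊤ : Subgroup ↥L))
      rw [Subgroup.normalizer_eq_top]
    have hsol : Group.IsSolvable (↥L ⧸ pElem p (⊤ : Subgroup ↥L)) := by
      have hpg : Group.IsSolvable ↥(pCore 2 ↥L) := by
        have := (Cfsg.Agent.Lib.Cores.pCore_isPGroup (G := ↥L) 2).isNilpotent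
        infer_instance
      refine Group.isSolvable_of_surjective
        (f := (QuotientGroup.mk' (pElem p (⊤ : Subgroup ↥L))).comp (pCore 2 ↥L).subtype) ?_
      intro y
      obtain ⟨g, rfl⟩ := QuotientGroup.mk'_surjective _ y
      have h1 : QuotientGroup.mk' (pCore 2 ↥L) g ∈
          (pElem p (⊤ : Subgroup ↥L)).map (QuotientGroup.mk' (pCore 2 ↥L)) := by
        rw [h2]; exact mem_top _
      obtain ⟨e, he, h2⟩ := h1
      rw [QuotientGroup.mk'_eq_mk'] at h2
      obtain ⟨z, hz, h3⟩ := h2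
      refine ⟨⟨z, hz⟩, ?_⟩
      change QuotientGroup.mk' (pElem p (⊤ : Subgroup ↥L)) z = QuotientGroup.mk' (pElem p (⊤ : Subgroup ↥L)) g
      rw [← h3, map_mul]
      have h4 : QuotientGroup.mk' (pElem p (⊤ : Subgroup ↥L)) e = 1 := by
        rw [QuotientGroup.mk'_apply, QuotientGroup.eq_one_iff]; exact he
      rw [h4, one_mul]
    have h3 := Cfsg.Agent.TwoFusion.PerfCore.le_ker_of_perfect (H5.Row64.perfect_top hL)
      (QuotientGroup.mk' (pElem p (⊤ : Subgroup ↥L))) (by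
        rw [Subgroup.map_top_of_surjective _ (QuotientGroup.mk'_surjective _)]
        exact Group.isSolvable_of_surjective
          (f := (Subgroup.topEquiv (G := ↥L ⧸ pElem p (⊤ : Subgroup ↥L))).symm.toMonoidHom)
          (Subgroup.topEquiv (G := ↥L ⧸ pElem p (⊤ : Subgroup ↥L))).symm.surjective)
    rw [QuotientGroup.ker_mk'] at h3
    have h4 : pElem p (⊤ : Subgroup ↥L) ≤ (pElem p L).subgroupOf L := by
      refine (closure_le _).2 ?_
      rintro y ⟨-, n, hn⟩
      change (y : G) ∈ pElem p L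
      exact mem_pElem y.2 (n := n) (by simpa using congrArg Subtype.val hn)
    intro x hx
    exact pElem_mono hLH (h4 (h3 (mem_top (⟨x, hx⟩ : ↥L))))
  have hEq : pElem p H = L := le_antisymm hEL hLE
  have h5 := normalizer_le_normalizer_pElem (p := p) H
  rw [hEq] at h5
  exact (le_sup_right.trans Subgroup.le_normalizer).trans h5

/-- **`T ≤ N_G(L)`** if the primes `p ≥ 5` divide `|G|` at most once. -/
theorem of_sq [Finite G] (hG : ∀ p : ℕ, p.Prime → 5 ≤ p → ¬ p * p ∣ Nat.card G) (T : Sylow 2 G) {L : Subgroup G}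
    (hL : L ∈ calL (T : Subgroup G)) (hq : IsQuasisimple (↥L ⧸ pCore 2 ↥L)) :
    (T : Subgroup G) ≤ normalizer (L : Set G) := by
  by_cases h : ∃ p : ℕ, p.Prime ∧ 5 ≤ p ∧ p ∣ Nat.card (↥L ⧸ pCore 2 ↥L)
  · obtain ⟨p, hp, h5, hd⟩ := h
    exact le_normalizer T hL hp (by omega) hd (hG p hp h5) hq
  · exfalso
    push Not at h
    apply quasisimple_not_solvable hq
    have hne : Nat.card (↥L ⧸ pCore 2 ↥L) ≠ 0 := Nat.card_pos.ne'
    have key : ∀ p : ℕ, p.Prime → p ∣ Nat.card (↥L ⧸ pCore 2 ↥L) → p = 2 ∨ p = 3 := by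
      intro p hp hd
      have h1 : ¬ 5 ≤ p := fun h5 => h p hp h5 hd
      have h2 := hp.two_le
      rcases (show p = 2 ∨ p = 3 ∨ p = 4 by omega) with h | h | h
      · exact Or.inl h
      · exact Or.inr h
      · subst h; exact absurd hp (by norm_num)
    refine Cfsg.Agent.S0144.result 2 3 ((Nat.card (↥L ⧸ pCore 2 ↥L)).factorization 2)
      ((Nat.card (↥L ⧸ pCore 2 ↥L)).factorization 3) Nat.prime_two Nat.prime_three ?_
    conv_lhs => rw [← Nat.prod_factorization_pow_eq_self hne]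
    rw [Finsupp.prod_of_support_subset (s := {2, 3})]
    · rw [Finset.prod_pair (by norm_num)]
    · intro p hp
      have h1 := Nat.mem_primeFactors.1 (by simpa using hp)
      rcases key p h1.1 h1.2.1 with rfl | rfl <;> simp
    · intro i _; exact pow_zero i

end Cfsg.Agent.H1.NormSq
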