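import Mathlib
import Cfsg.Agent.Nodes.LeviDec

/-!
# Overgroups of `U` in a group with a root group datum (helper1)

`R : RGD cs h p T n X`, `U = ⟨X a : a > 0⟩ ≤ H`, `J = JH H = {i | X (-α_i) ≤ H}`.

* `cell_mem` : the elements of `H` lie in cells over `W_J`; `le_PJ` : `H ≤ GG → H ≤ P_J`;
* `exists_n` : `T n_i` meets `H` for `i ∈ J`; `rootsJ_le` : `⟨X a : a ∈ RootsJ J⟩ ≤ H`;
* `PJ_le` : `P_J ≤ T H`.
-/

set_option autoImplicit false
set_option linter.unusedSectionVars false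

namespace Cfsg.Agent.H1.Over

open CoxeterSystem Cfsg.Agent.ChevalleyStructure.CoxeterGeom Cfsg.Agent.Tits.Roots Cfsg.Agent.Tits.Core
  Cfsg.Agent.Tits.RootComb Cfsg.Agent.Tits.Exchange Cfsg.Agent.Nodes.Reps Cfsg.Agent.Nodes.BNOf
  Cfsg.Agent.Nodes.StabComb Cfsg.Agent.Nodes.Bruhat Cfsg.Agent.Nodes.OppDec Cfsg.Agent.Nodes.LeviDec
open scoped commutatorElement

variable {I W Y : Type*} [Fintype I] [DecidableEq I] [Group W] [Group Y] {M : CoxeterMatrix I}
  {cs : CoxeterSystem M W} {A : I → I → ℤ} {h : IsCartan M A} {p : ℕ} {T : Subgroup Y} {n : I → Y}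
  {X : (I → ℤ) → Subgroup Y}

/-- the nodes of an overgroup of `U` -/
def JH (X : (I → ℤ) → Subgroup Y) (H : Subgroup Y) : Set I := {i | X (-sr i) ≤ H}

variable (R : RGD cs h p T n X) {H : Subgroup Y}

include R

/-- `T n_i` meets `H` for `i ∈ J` -/
theorem exists_n (hU : RGD.Sup X (RGD.Pos cs h) ≤ H) {i : I} (hi : i ∈ JH X H) : ∃ t ∈ T, t * n i ∈ H := by
  obtain ⟨u, hu, hu1⟩ := exists_ne_one R i
  have h1 : n i * u * (n i)⁻¹ ∈ X (-sr i) := by
    have := R.conj_mem (rp_simple cs R.nsys i) (isRoot_sr cs h i) hu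
    rwa [rep_simple_sr] at this
  have h2 : n i * u * (n i)⁻¹ ≠ 1 := fun h3 => hu1 (mul_eq_left.1 (mul_inv_eq_one.1 h3))
  obtain ⟨a, ha, t, ht, b, hb, e⟩ := R.rk1 i _ h1 h2
  refine ⟨t, ht, ?_⟩
  have h3 : t * n i = a⁻¹ * (n i * u * (n i)⁻¹) * b⁻¹ := by rw [e]; group
  rw [h3]
  have hUa : X (sr i) ≤ H := (RGD.le_Sup (S := RGD.Pos cs h) ⟨isRoot_sr cs h i, sr_nonneg i⟩).trans hU
  exact mul_mem (mul_mem (inv_mem (hUa ha)) (hi h1)) (inv_mem (hUa hb))

/-- if `H ≥ U` contains an element `k b` over `w`, `b ∈ B`, then the letters of `w` are in `J` -/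
theorem mem_WJ_of_mem_over (hU : RGD.Sup X (RGD.Pos cs h) ≤ H) : ∀ {w : W} {k b : Y},
    Rp cs R.nsys w k → b ∈ RGD.B cs h T X → k * b ∈ H → w ∈ WJ cs (JH X H) := by
  intro w
  induction hn : cs.length w using Nat.strong_induction_on generalizing w with
  | _ N ih =>
  intro k b hk hb hkH
  by_cases hw1 : w = 1
  · rw [hw1]; exact one_mem _
  obtain ⟨i, hi⟩ := cs.exists_leftDescent_of_ne_one hw1
  have hi' : cs.length (cs.simple i * w) < cs.length w := hi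
  have hneg : rep cs h w⁻¹ (sr i) ≤ 0 := by
    refine nonpos_of_lt cs h w⁻¹ i ?_
    rw [← cs.length_inv w, ← cs.length_inv (cs.simple i * w), mul_inv_rev, inv_simple] at hi'
    exact hi'
  have hJ : i ∈ JH X H := by
    intro x hx
    have h3 : k⁻¹ * x * k ∈ X (-rep cs h w⁻¹ (sr i)) := by
      have := R.conj_mem' hk (isRoot_sr cs h i).neg hx
      rwa [map_neg] at this
    have h4 : k⁻¹ * x * k ∈ RGD.Sup X (RGD.Pos cs h) :=
      RGD.le_Sup (S := RGD.Pos cs h) ⟨((isRoot_sr cs h i).act w⁻¹).neg, neg_nonneg.2 hneg⟩ h3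
    have h5 : b⁻¹ * (k⁻¹ * x * k) * b ∈ RGD.Sup X (RGD.Pos cs h) := by
      have := (Subgroup.mem_normalizer_iff.1 (inv_mem (R.B_le_normalizer_U hb)) (k⁻¹ * x * k)).1 h4
      rwa [inv_inv] at this
    have e : x = (k * b) * (b⁻¹ * (k⁻¹ * x * k) * b) * (k * b)⁻¹ := by group
    rw [e]
    exact mul_mem (mul_mem hkH (hU h5)) (inv_mem hkH)
  obtain ⟨t, ht, hm⟩ := exists_n R hU hJ
  have hk2 : Rp cs R.nsys (cs.simple i * w) ((t * n i)⁻¹ * k) := by
    have h1 : Rp cs R.nsys (cs.simple i) (t * n i) := by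
      have := (rp_of_mem (cs := cs) (hN := R.nsys) ht).mul (rp_simple cs R.nsys i)
      rwa [one_mul] at this
    have := h1.inv.mul hk
    rwa [inv_simple] at this
  have h7 := ih (cs.length (cs.simple i * w)) (by omega) rfl hk2 hb (by
    rw [mul_assoc]
    exact mul_mem (inv_mem hm) hkH)
  have h8 : w = cs.simple i * (cs.simple i * w) := by rw [← mul_assoc, simple_mul_simple_self, one_mul]
  rw [h8]
  exact mul_mem (simple_mem_WJ cs hJ) h7

/-- **the elements of an overgroup of `U` lie in the cells over `W_J`** -/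
theorem cell_mem (hU : RGD.Sup X (RGD.Pos cs h) ≤ H) {w : W} {g : Y} (hg : Cell R.nsys cs h X w g) (hgH : g ∈ H) :
    w ∈ WJ cs (JH X H) := by
  obtain ⟨b₁, hb₁, k, hk, b₂, hb₂, rfl⟩ := hg
  obtain ⟨t, ht, u, hu, e⟩ := R.mem_B.1 (inv_mem hb₁)
  -- `b₁ = u⁻¹ t⁻¹`
  have e' : b₁ = u⁻¹ * t⁻¹ := by rw [← inv_inv b₁, e]; group
  have hk2 : Rp cs R.nsys w (t⁻¹ * k) := by
    have := (rp_of_mem (cs := cs) (hN := R.nsys) (inv_mem ht)).mul hk
    rwa [one_mul] at this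
  refine mem_WJ_of_mem_over R hU hk2 hb₂ ?_
  have e2 : t⁻¹ * k * b₂ = u * (b₁ * k * b₂) := by rw [e']; group
  rw [e2]
  exact mul_mem (hU hu) hgH

/-- **an overgroup of `U` in `GG` is contained in `P_J`** -/
theorem le_PJ [Finite W] (hU : RGD.Sup X (RGD.Pos cs h) ≤ H) (hG : H ≤ GG cs h T X) : H ≤ PJ cs h T X (JH X H) := by
  intro g hg
  obtain ⟨w, hw⟩ := (mem_GG R).1 (hG hg)
  exact (cell_mem_PJ_iff R hw).2 (cell_mem R hU hw hg)

/-- `J ⊆ J'` if `H ≤ P_{J'}` -/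
theorem JH_subset [Finite W] (hU : RGD.Sup X (RGD.Pos cs h) ≤ H) {J' : Set I} (hH : H ≤ PJ cs h T X J') :
    JH X H ⊆ J' := by
  intro i hi
  obtain ⟨t, ht, hm⟩ := exists_n R hU hi
  have h1 : n i ∈ PJ cs h T X J' := by
    have : n i = t⁻¹ * (t * n i) := by group
    rw [this]
    exact mul_mem (inv_mem (LJ_le_PJ (T_le_LJ ht))) (hH hm)
  have h2 := (cell_mem_PJ_iff R (cell_of_rp (rp_simple cs R.nsys i))).1 h1
  by_contra hcon
  have h3 := rep_apply_of_mem cs h h2 (sr i) hcon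
  rw [rep_simple_sr, Pi.neg_apply, sr_self] at h3
  exact absurd h3 (by decide)

/-- the root groups of the roots of `J` lie in `H` -/
theorem rootsJ_le [Finite W] (hU : RGD.Sup X (RGD.Pos cs h) ≤ H) : RGD.Sup X (RootsJ cs h (JH X H)) ≤ H := by
  refine RGD.Sup_le fun x hx => ?_
  obtain ⟨w, hw, j, hj, rfl⟩ := exists_of_mem_RootsJ hx
  -- a representative of `w` in `H`
  have key : ∀ w ∈ WJ cs (JH X H), ∃ k ∈ H, Rp cs R.nsys w k := by
    intro w hw
    obtain ⟨ω, hω, rfl⟩ := exists_word_of_mem_WJ cs hw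
    clear hw
    induction ω with
    | nil => exact ⟨1, one_mem _, by rw [wordProd_nil]; exact rp_one⟩
    | cons i ω ih =>
      obtain ⟨k, hk, hr⟩ := ih fun j hj => hω j (by simp [hj])
      obtain ⟨t, ht, hm⟩ := exists_n R hU (hω i (by simp))
      refine ⟨t * n i * k, mul_mem hm hk, ?_⟩
      rw [wordProd_cons]
      have h1 : Rp cs R.nsys (cs.simple i) (t * n i) := by
        have := (rp_of_mem (cs := cs) (hN := R.nsys) ht).mul (rp_simple cs R.nsys i)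
        rwa [one_mul] at this
      exact h1.mul hr
  obtain ⟨k, hk, hr⟩ := key w hw
  rw [← R.conj_rp hr (isRoot_sr cs h j)]
  have h1 : X (sr j) ≤ H := (RGD.le_Sup (S := RGD.Pos cs h) ⟨isRoot_sr cs h j, sr_nonneg j⟩).trans hU
  intro y hy
  rw [mem_cj] at hy
  have e : y = k * (k⁻¹ * y * k) * k⁻¹ := by group
  rw [e]
  exact mul_mem (mul_mem hk (h1 hy)) (inv_mem hk)

end Cfsg.Agent.H1.Over
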