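import Mathlib
import Cfsg.Prelude.Def_Quasithin
import Cfsg.Prelude.Def_QuasithinSetup
import Cfsg.Agent.Lib.Cores
import Cfsg.Agent.SignalizersComponents.Components

/-!
# 𝒞-components in groups which are solvable-by-quasisimple-by-solvable (helper1)

* `le_of_perfect` : a perfect subgroup of `H` lies in the subnormal subgroup `L` if `H = L V`, `V` normal solvable;
* `Main` : `φ : H → Q` surjective with kernel a 2-group, `N ≤ Q` normal quasisimple (or perfect with the corresponding
  property), `Q/N` solvable; `L ∈ 𝒞(H)`: then `φ(L) = N`, `L = perfectCore H` is normal, `L / O_2(L) ≃ N / O_2(N)`.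
-/

set_option autoImplicit false

namespace Cfsg.Agent.H1.Tight

open Subgroup Cfsg

section general

variable {H Q : Type*} [Group H] [Group Q]

/-- a perfect subgroup is mapped to `1` by a homomorphism to a solvable group -/
theorem map_eq_bot_of_perfect [Group.IsSolvable Q] (f : H →* Q) {R : Subgroup H}
    (hR : ⁅R, R⁆ = R) : R.map f = ⊥ := by
  have h1 : ⁅R.map f, R.map f⁆ = R.map f := by rw [← map_commutator, hR]
  have h2 : ∀ n, R.map f ≤ derivedSeries Q n := by
    intro n
    induction n with
    | zero => rw [derivedSeries_zero]; exact le_top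
    | succ n ih => rw [derivedSeries_succ, ← h1]; exact commutator_mono ih ih
  obtain ⟨n, hn⟩ := Group.IsSolvable.solvable (G := Q)
  exact eq_bot_iff.2 (hn ▸ h2 n)

/-- a perfect solvable subgroup is trivial -/
theorem eq_bot_of_perfect {R : Subgroup H} (hR : ⁅R, R⁆ = R) (hs : Group.IsSolvable R) : R = ⊥ := by
  have h1 : ⁅(⊤ : Subgroup R), (⊤ : Subgroup R)⁆ = ⊤ := by
    apply map_injective R.subtype_injective
    rw [map_commutator, ← MonoidHom.range_eq_map, range_subtype]
    exact hR
  have h2 := map_eq_bot_of_perfect (MonoidHom.id R) h1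
  rw [map_id] at h2
  have h3 := congrArg (Subgroup.map R.subtype) h2
  rwa [← MonoidHom.range_eq_map, range_subtype, Subgroup.map_bot] at h3

/-- a perfect subgroup lies in a normal subgroup with solvable quotient -/
theorem le_of_perfect_of_quot (N : Subgroup H) [N.Normal] [Group.IsSolvable (H ⧸ N)]
    {R : Subgroup H} (hR : ⁅R, R⁆ = R) : R ≤ N := by
  have h := map_eq_bot_of_perfect (QuotientGroup.mk' N) hR
  rwa [Subgroup.map_eq_bot_iff, QuotientGroup.ker_mk'] at h

/-- the image of a perfect subgroup -/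
theorem perfect_map (f : H →* Q) {R : Subgroup H} (hR : ⁅R, R⁆ = R) : ⁅R.map f, R.map f⁆ = R.map f := by
  rw [← map_commutator, hR]

/-- **A perfect subgroup lies in every subnormal subgroup `L` with `H = L V`, `V` normal and solvable.** -/
theorem le_of_perfect (V : Subgroup H) [hV : V.Normal] (hVs : Group.IsSolvable V) {L R : Subgroup H} (hR : ⁅R, R⁆ = R)
    (hL : L.IsSubnormal) (hLV : L ⊔ V = ⊤) : R ≤ L := by
  induction hL with
  | top => exact le_top
  | step L K hLK hK hN ih =>
    have hKV : K ⊔ V = ⊤ := top_le_iff.1 (hLV ▸ sup_le_sup_right hLK V)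
    have hRK := ih hKV
    have hs : Group.IsSolvable (↥K ⧸ L.subgroupOf K) := by
      let f : ↥(V.subgroupOf K) →* ↥K ⧸ L.subgroupOf K := (QuotientGroup.mk' (L.subgroupOf K)).comp
        (V.subgroupOf K).subtype
      have hf : Function.Surjective f := by
        intro y
        obtain ⟨k, rfl⟩ := QuotientGroup.mk'_surjective _ y
        have h1 : (k : H) ∈ L ⊔ V := by rw [hLV]; exact mem_top _
        obtain ⟨l, hl, v, hv, he⟩ := mem_sup_of_normal_right.1 h1
        have hvK : v ∈ K := by
          have : v = l⁻¹ * k := by rw [← he]; group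
          rw [this]; exact mul_mem (inv_mem (hLK hl)) k.2
        refine ⟨⟨⟨v, hvK⟩, mem_subgroupOf.2 hv⟩, ?_⟩
        change QuotientGroup.mk' (L.subgroupOf K) ⟨v, hvK⟩ = QuotientGroup.mk' (L.subgroupOf K) k
        rw [QuotientGroup.mk'_eq_mk']
        refine ⟨⟨v⁻¹ * l * v, mul_mem (mul_mem (inv_mem hvK) (hLK hl)) hvK⟩, ?_, ?_⟩
        · have h2 := hN.conj_mem ⟨l, hLK hl⟩ (mem_subgroupOf.2 hl) ⟨v, hvK⟩⁻¹
          rw [mem_subgroupOf] at h2 ⊢
          simpa using h2
        · apply Subtype.ext
          change v * (v⁻¹ * l * v) = k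
          rw [← he]; group
      have hVK : Group.IsSolvable ↥(V.subgroupOf K) := by
        let g : ↥(V.subgroupOf K) →* ↥V :=
          (K.subtype.comp (V.subgroupOf K).subtype).codRestrict V (fun x => mem_subgroupOf.1 x.2)
        refine Group.isSolvable_of_isSolvable_injective (f := g) ?_
        intro x y hxy
        have := congrArg Subtype.val hxy
        exact Subtype.ext (Subtype.ext this)
      exact Group.isSolvable_of_surjective hf
    have hRp : ⁅R.subgroupOf K, R.subgroupOf K⁆ = R.subgroupOf K := by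
      apply map_injective K.subtype_injective
      rw [map_commutator, subgroupOf_map_subtype, inf_eq_left.2 hRK]
      exact hR
    have h1 := le_of_perfect_of_quot (L.subgroupOf K) hRp
    intro x hx
    exact mem_subgroupOf.1 (h1 (show (⟨x, hRK hx⟩ : K) ∈ R.subgroupOf K from mem_subgroupOf.2 hx))

/-- a perfect subgroup lies in the perfect core -/
theorem le_perfectCore {L : Subgroup H} (hL : ⁅L, L⁆ = L) : L ≤ perfectCore H := le_sSup hL

/-- the perfect core is perfect -/
theorem perfectCore_perfect : ⁅perfectCore H, perfectCore H⁆ = perfectCore H := by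
  apply le_antisymm
  · rw [commutator_le]
    intro a ha b hb
    exact mul_mem (mul_mem (mul_mem ha hb) (inv_mem ha)) (inv_mem hb)
  · refine sSup_le ?_
    intro L hL
    have h1 : ⁅L, L⁆ = L := hL
    rw [← h1]
    exact commutator_mono (le_sSup hL) (le_sSup hL)

theorem perfectCore_map_equiv (e : H ≃* Q) : (perfectCore H).map e.toMonoidHom = perfectCore Q := by
  apply le_antisymm
  · exact le_perfectCore (perfect_map _ perfectCore_perfect)
  · have h := le_perfectCore (H := H) (perfect_map e.symm.toMonoidHom (perfectCore_perfect (H := Q)))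
    have h2 := Subgroup.map_mono (f := e.toMonoidHom) h
    rw [Subgroup.map_map] at h2
    have h3 : e.toMonoidHom.comp e.symm.toMonoidHom = MonoidHom.id Q := by
      ext x; exact e.apply_symm_apply x
    rwa [h3, Subgroup.map_id] at h2

instance perfectCore_characteristic : (perfectCore H).Characteristic :=
  characteristic_iff_map_eq.2 fun e => perfectCore_map_equiv e

theorem perfectCore_normal : (perfectCore H).Normal := inferInstance

end general

section main

variable {H Q : Type*} [Group H] [Group Q]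

/-- `N` is normal, perfect, with solvable quotient; its perfect subnormal subgroups are `1` and `N` -/
structure Tame (N : Subgroup Q) [N.Normal] : Prop where
  perf : ⁅N, N⁆ = N
  quot : Group.IsSolvable (Q ⧸ N)
  sub : ∀ S : Subgroup Q, S.IsSubnormal → S ≤ N → ⁅S, S⁆ = S → S = ⊥ ∨ S = N

/-- a quasisimple normal subgroup with solvable quotient is tame -/
theorem Tame.of_quasisimple {N : Subgroup Q} [N.Normal] (hN : IsQuasisimple N) (hq : Group.IsSolvable (Q ⧸ N)) :
    Tame N := by
  refine ⟨?_, hq, ?_⟩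
  · have h1 := hN.1
    rw [Group.isPerfect_def, commutator_def] at h1
    have h2 := congrArg (Subgroup.map N.subtype) h1
    rw [map_commutator, ← MonoidHom.range_eq_map, range_subtype] at h2
    exact h2
  · intro S hS hSN hSp
    have hS' : (S.subgroupOf N).IsSubnormal := hS.subgroupOf
    rcases Cfsg.Agent.SignalizersComponents.Components.quasisimple_subnormal hN hS' with h | h
    · right
      exact le_antisymm hSN (subgroupOf_eq_top.1 h)
    · left
      refine eq_bot_of_perfect hSp ?_
      have hc : ∀ a b : S, a * b = b * a := by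
        intro a b
        have h1 := h (show (⟨a, hSN a.2⟩ : N) ∈ S.subgroupOf N from mem_subgroupOf.2 a.2)
        have h2 := mem_center_iff.1 h1 ⟨b, hSN b.2⟩
        exact Subtype.ext (congrArg Subtype.val h2).symm
      exact Group.isSolvable_of_comm hc

/-- **The image of a 𝒞-component.** -/
theorem map_eq (φ : H →* Q) (hφ : Function.Surjective φ) (hker : Group.IsSolvable φ.ker) {N : Subgroup Q} [N.Normal]
    (hN : Tame N) {L : Subgroup H} (hL : L ≠ ⊥) (hLp : ⁅L, L⁆ = L) (hLs : L.IsSubnormal) : L.map φ = N := by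
  have := hN.quot
  have h1 : L.map φ ≤ N := le_of_perfect_of_quot N (perfect_map φ hLp)
  rcases hN.sub _ (hLs.map hφ) h1 (perfect_map φ hLp) with h | h
  · exfalso
    rw [Subgroup.map_eq_bot_iff] at h
    refine hL (eq_bot_of_perfect hLp ?_)
    exact Group.isSolvable_of_isSolvable_injective (f := inclusion h) (inclusion_injective h)
  · exact h

/-- **The 𝒞-component is the perfect core.** -/
theorem eq_perfectCore (φ : H →* Q) (hφ : Function.Surjective φ) (hker : Group.IsSolvable φ.ker) {N : Subgroup Q}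
    [N.Normal] (hN : Tame N) {L : Subgroup H} (hL : L ≠ ⊥) (hLp : ⁅L, L⁆ = L) (hLs : L.IsSubnormal) :
    L = perfectCore H := by
  have hm := map_eq φ hφ hker hN hL hLp hLs
  refine le_antisymm (le_perfectCore hLp) ?_
  set K0 : Subgroup H := N.comap φ with hK0
  have hR : perfectCore H ≤ K0 := by
    rw [hK0, ← map_le_iff_le_comap]
    have := hN.quot
    exact le_of_perfect_of_quot N (perfect_map φ perfectCore_perfect)
  have hLK : L ≤ K0 := by rw [hK0, ← map_le_iff_le_comap, hm]
  have hkK : φ.ker ≤ K0 := by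
    intro x hx
    rw [hK0, mem_comap, MonoidHom.mem_ker.1 hx]
    exact one_mem _
  have hsup : L.subgroupOf K0 ⊔ φ.ker.subgroupOf K0 = ⊤ := by
    rw [← subgroupOf_sup hLK hkK, subgroupOf_eq_top]
    intro x hx
    have h1 : φ x ∈ L.map φ := by rw [hm]; exact hx
    obtain ⟨l, hl, he⟩ := h1
    have h2 : l⁻¹ * x ∈ φ.ker := by rw [MonoidHom.mem_ker, map_mul, map_inv, he, inv_mul_cancel]
    have h3 : x = l * (l⁻¹ * x) := by group
    rw [h3]
    exact mul_mem_sup hl h2
  have hks : Group.IsSolvable ↥(φ.ker.subgroupOf K0) :=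
    Group.isSolvable_of_isSolvable_injective (f := (subgroupOfEquivOfLe hkK).toMonoidHom)
      (subgroupOfEquivOfLe hkK).injective
  have hRp : ⁅(perfectCore H).subgroupOf K0, (perfectCore H).subgroupOf K0⁆ = (perfectCore H).subgroupOf K0 := by
    apply map_injective K0.subtype_injective
    rw [map_commutator, subgroupOf_map_subtype, inf_eq_left.2 hR]
    exact perfectCore_perfect
  have h1 := le_of_perfect (φ.ker.subgroupOf K0) hks hRp hLs.subgroupOf hsup
  intro x hx
  exact mem_subgroupOf.1 (h1 (show (⟨x, hR hx⟩ : K0) ∈ _ from mem_subgroupOf.2 hx))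

/-- **`L / O_p(L) ≃ N`**, when the kernel is a `p`-group and `O_p(N) = 1` -/
theorem nonempty_quot (p : ℕ) (φ : H →* Q) (hker : IsPGroup p φ.ker) {L : Subgroup H} {N : Subgroup Q}
    (hm : L.map φ = N) (hN : pCore p N = ⊥) : Nonempty ((L ⧸ pCore p L) ≃* N) := by
  let f : L →* N := (φ.comp L.subtype).codRestrict N (fun x => by rw [← hm]; exact ⟨x, x.2, rfl⟩)
  have hf : Function.Surjective f := by
    rintro ⟨y, hy⟩
    rw [← hm] at hy
    obtain ⟨x, hx, rfl⟩ := hy
    exact ⟨⟨x, hx⟩, rfl⟩
  have hk : f.ker = pCore p L := by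
    apply le_antisymm
    · refine Cfsg.Agent.Lib.Cores.le_pCore inferInstance ?_
      let g : ↥f.ker →* ↥φ.ker := (L.subtype.comp f.ker.subtype).codRestrict φ.ker (fun x => by
        have := congrArg Subtype.val (MonoidHom.mem_ker.1 x.2)
        exact MonoidHom.mem_ker.2 this)
      refine hker.of_injective g ?_
      intro x y hxy
      have := congrArg Subtype.val hxy
      exact Subtype.ext (Subtype.ext this)
    · have h1 : (pCore p L).map f ≤ pCore p N :=
        Cfsg.Agent.Lib.Cores.le_pCore ((Cfsg.Agent.Lib.Cores.pCore_normal p).map _ hf)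
          ((Cfsg.Agent.Lib.Cores.pCore_isPGroup p).map _)
      rw [hN, le_bot_iff, Subgroup.map_eq_bot_iff] at h1
      exact h1
  exact ⟨(QuotientGroup.quotientMulEquivOfEq hk.symm).trans (QuotientGroup.quotientKerEquivOfSurjective f hf)⟩

end main

section calL

variable {G Q : Type*} [Group G] [Finite G] [Group Q]

omit [Finite G] in
theorem quot_subgroupOf_equiv (p : ℕ) {H L : Subgroup G} (hLH : L ≤ H) :
    Nonempty ((L ⧸ pCore p L) ≃* (↥(L.subgroupOf H) ⧸ pCore p ↥(L.subgroupOf H))) := by
  let e := (subgroupOfEquivOfLe hLH).symm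
  exact ⟨QuotientGroup.congr (pCore p L) (pCore p ↥(L.subgroupOf H)) e (Cfsg.Agent.Lib.Cores.map_equiv_pCore e p)⟩

omit [Finite G] in
theorem conj_of_normal_subgroupOf {H L : Subgroup G} (hLH : L ≤ H) (hn : (L.subgroupOf H).Normal) :
    H ≤ normalizer (L : Set G) := normal_subgroupOf_iff_le_normalizer hLH |>.1 hn

/-- **Members of `ℒ(G, T)`** when `⟨L, T⟩` has a tame quotient by a normal 2-subgroup. -/
theorem calL_of_hom {T L : Subgroup G} (hL : L ∈ calL T) (φ : ↥(L ⊔ T) →* Q)
    (hφ : Function.Surjective φ) (hker : IsPGroup 2 φ.ker) {N : Subgroup Q} [N.Normal] (hN : Tame N)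
    (hO : pCore 2 N = ⊥) :
    L ⊔ T ≤ normalizer (L : Set G) ∧ Nonempty ((L ⧸ pCore 2 L) ≃* N) ∧
      L.subgroupOf (L ⊔ T) = perfectCore ↥(L ⊔ T) := by
  have h2 : Fact (Nat.Prime 2) := ⟨Nat.prime_two⟩
  have hs : Group.IsSolvable φ.ker := by
    have := hker.isNilpotent
    infer_instance
  obtain ⟨⟨h1, h3, h4, -⟩, -, -⟩ := hL
  have he := eq_perfectCore φ hφ hs hN h1 h3 h4
  refine ⟨conj_of_normal_subgroupOf le_sup_left (he ▸ perfectCore_normal), ?_, he⟩
  obtain ⟨f⟩ := nonempty_quot 2 φ hker (map_eq φ hφ hs hN h1 h3 h4) hO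
  obtain ⟨e⟩ := quot_subgroupOf_equiv 2 (le_sup_left : L ≤ L ⊔ T)
  exact ⟨e.trans f⟩

omit [Finite G] in
/-- `⟨L, T⟩` is not solvable for `L ∈ ℒ(G, T)` -/
theorem not_solvable_of_calL {T L : Subgroup G} (hL : L ∈ calL T) (hs : Group.IsSolvable ↥(L ⊔ T)) : False := by
  obtain ⟨⟨h1, h3, h4, -⟩, -, -⟩ := hL
  refine h1 (eq_bot_of_perfect h3 ?_)
  infer_instance

omit [Finite G] in
/-- a tame subgroup of `Q` contained in `Q₀` is a tame subgroup of `Q₀` -/
theorem Tame.subgroupOf {N Q0 : Subgroup Q} [N.Normal] (hN : Tame N) (h : N ≤ Q0) : Tame (N.subgroupOf Q0) := by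
  refine ⟨?_, ?_, ?_⟩
  · apply map_injective Q0.subtype_injective
    rw [map_commutator, subgroupOf_map_subtype, inf_eq_left.2 h]
    exact hN.perf
  · have := hN.quot
    let f : Q0 →* Q ⧸ N := (QuotientGroup.mk' N).comp Q0.subtype
    have hk : f.ker = N.subgroupOf Q0 := by
      ext x
      rw [MonoidHom.mem_ker, mem_subgroupOf]
      exact QuotientGroup.eq_one_iff (x : Q)
    exact Group.isSolvable_of_isSolvable_injective (f := QuotientGroup.lift (N.subgroupOf Q0) f hk.ge) (by
      rw [← MonoidHom.ker_eq_bot_iff, eq_bot_iff]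
      intro x hx
      obtain ⟨y, rfl⟩ := QuotientGroup.mk_surjective x
      rw [MonoidHom.mem_ker, QuotientGroup.lift_mk] at hx
      rw [mem_bot, QuotientGroup.eq_one_iff, ← hk]
      exact hx)
  · intro S hS hSN hSp
    have h1 : (S.map Q0.subtype) ≤ N := by
      rintro _ ⟨x, hx, rfl⟩
      exact mem_subgroupOf.1 (hSN hx)
    have h2 : (S.map Q0.subtype).IsSubnormal := by
      have h3 : ((S.map Q0.subtype).subgroupOf N).IsSubnormal := by
        have h4 : (S.subgroupOf (N.subgroupOf Q0)).IsSubnormal := hS.subgroupOf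
        have h5 := h4.map (f := (subgroupOfEquivOfLe h).toMonoidHom) (subgroupOfEquivOfLe h).surjective
        convert h5 using 1
        ext x
        rw [mem_subgroupOf]
        constructor
        · rintro ⟨y, hy, hyx⟩
          refine ⟨⟨y, mem_subgroupOf.2 (by rw [← coe_subtype, hyx]; exact x.2)⟩, mem_subgroupOf.2 hy, ?_⟩
          exact Subtype.ext hyx
        · rintro ⟨y, hy, rfl⟩
          exact ⟨y, mem_subgroupOf.1 hy, rfl⟩
      exact h3.trans h1 (Normal.isSubnormal inferInstance)
    rcases hN.sub _ h2 h1 (perfect_map _ hSp) with h6 | h6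
    · left
      exact (Subgroup.map_eq_bot_iff_of_injective _ Q0.subtype_injective).1 h6
    · right
      rw [← h6]
      exact (comap_map_eq_self_of_injective Q0.subtype_injective S).symm

/-- **Members of `ℒ(G, T)` in `M ≥ T`**: `ψ : M → Q` is surjective with kernel a 2-group and every subgroup of `Q` of odd
index is solvable or contains the tame subgroup `N` of `Q`. -/
theorem calL_of_odd (T : Sylow 2 G) {L M : Subgroup G} (hL : L ∈ calL (T : Subgroup G)) (hTM : (T : Subgroup G) ≤ M)
    (hLM : L ≤ M) (ψ : M →* Q) (hψ : Function.Surjective ψ) (hker : IsPGroup 2 ψ.ker) {N : Subgroup Q} [N.Normal]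
    (hN : Tame N) (hO : pCore 2 N = ⊥)
    (hodd : ∀ Q0 : Subgroup Q, Odd Q0.index → Group.IsSolvable Q0 ∨ N ≤ Q0) :
    L ⊔ T ≤ normalizer (L : Set G) ∧ Nonempty ((L ⧸ pCore 2 L) ≃* N) ∧
      L.subgroupOf (L ⊔ T) = perfectCore ↥(L ⊔ T) := by
  have h2 : Fact (Nat.Prime 2) := ⟨Nat.prime_two⟩
  have hHM : L ⊔ T ≤ M := sup_le hLM hTM
  set H : Subgroup G := L ⊔ T with hH
  let φ0 : ↥H →* Q := ψ.comp (inclusion hHM)
  have hker0 : IsPGroup 2 φ0.ker := by
    let g : ↥φ0.ker →* ↥ψ.ker := ((inclusion hHM).comp φ0.ker.subtype).codRestrict ψ.ker (fun x => by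
      have := MonoidHom.mem_ker.1 x.2
      exact MonoidHom.mem_ker.2 this)
    refine hker.of_injective g ?_
    intro x y hxy
    have := congrArg Subtype.val hxy
    exact Subtype.ext (inclusion_injective hHM this)
  have hkers : Group.IsSolvable φ0.ker := by
    have := hker0.isNilpotent
    infer_instance
  -- the index of the image is odd
  have hidx : Odd (φ0.range).index := by
    have h3 : ¬ 2 ∣ (T : Subgroup G).index := T.not_dvd_index
    have h4 : H.relIndex M ∣ (T : Subgroup G).index := by
      have h5 : (T : Subgroup G).relIndex M ∣ (T : Subgroup G).index :=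
        relIndex_dvd_index_of_le hTM
      have h6 : H.relIndex M ∣ (T : Subgroup G).relIndex M := relIndex_dvd_of_le_left M le_sup_right
      exact h6.trans h5
    have h7 : (φ0.range).index ∣ (H.subgroupOf M).index := by
      have h8 : φ0.range = (H.subgroupOf M).map ψ := by
        ext y
        constructor
        · rintro ⟨x, rfl⟩
          exact ⟨inclusion hHM x, mem_subgroupOf.2 x.2, rfl⟩
        · rintro ⟨x, hx, rfl⟩
          exact ⟨⟨x, mem_subgroupOf.1 hx⟩, rfl⟩
      rw [h8]
      exact index_map_dvd _ hψ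
    rw [← Nat.not_even_iff_odd, even_iff_two_dvd]
    intro h9
    exact h3 ((h9.trans h7).trans h4)
  let φ : ↥H →* ↥φ0.range := φ0.rangeRestrict
  have hφ : Function.Surjective φ := φ0.rangeRestrict_surjective
  have hφk : φ.ker = φ0.ker := φ0.ker_rangeRestrict
  rcases hodd _ hidx with h | h
  · exfalso
    refine not_solvable_of_calL hL ?_
    exact Group.isSolvable_of_ker_le_range φ0.ker.subtype φ (by rw [hφk, range_subtype])
  · obtain ⟨h3, ⟨e⟩, h4⟩ := calL_of_hom hL φ hφ (hφk ▸ hker0) (hN.subgroupOf h) (by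
      rw [← (Cfsg.Agent.Lib.Cores.map_equiv_pCore (subgroupOfEquivOfLe h).symm 2), hO, Subgroup.map_bot])
    exact ⟨h3, ⟨e.trans (subgroupOfEquivOfLe h)⟩, h4⟩

end calL

end Cfsg.Agent.H1.Tight
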