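import Mathlib
import Cfsg.Agent.H1.Tight

/-!
# Members of `ℒ(G, T)` inside a subgroup `M` (helper1)

* `calL_of_le` : `T ≤ M`, `L ≤ M`, `ψ : M → Q` with kernel a 2-group, `N ≤ Q` tame, `N ≤ ψ(⟨L, T⟩)`.
* `Tame.map_equiv`.
-/

set_option autoImplicit false

namespace Cfsg.Agent.H1.Tight

open Subgroup Cfsg

variable {G Q : Type*} [Group G] [Finite G] [Group Q]

/-- **Members of `ℒ(G, T)` in `M`**: the image of `⟨L, T⟩` contains the tame subgroup `N`. -/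
theorem calL_of_le {T L M : Subgroup G} (hL : L ∈ calL T) (hTM : T ≤ M)
    (hLM : L ≤ M) (ψ : M →* Q) (hker : IsPGroup 2 ψ.ker) {N : Subgroup Q} [N.Normal]
    (hN : Tame N) (hO : pCore 2 N = ⊥) (hle : N ≤ ((L ⊔ T).subgroupOf M).map ψ) :
    L ⊔ T ≤ normalizer (L : Set G) ∧ Nonempty ((L ⧸ pCore 2 L) ≃* N) ∧
      L.subgroupOf (L ⊔ T) = perfectCore ↥(L ⊔ T) := by
  have hHM : L ⊔ T ≤ M := sup_le hLM hTM
  set H : Subgroup G := L ⊔ T with hH
  let φ0 : ↥H →* Q := ψ.comp (inclusion hHM)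
  have hker0 : IsPGroup 2 φ0.ker := by
    let g : ↥φ0.ker →* ↥ψ.ker := ((inclusion hHM).comp φ0.ker.subtype).codRestrict ψ.ker (fun x => by
      have := MonoidHom.mem_ker.1 x.2
      exact MonoidHom.mem_ker.2 this)
    refine hker.of_injective g ?_
    intro x y hxy
    have := congrArg Subtype.val hxy
    exact Subtype.ext (inclusion_injective hHM this)
  have h8 : φ0.range = (H.subgroupOf M).map ψ := by
    ext y
    constructor
    · rintro ⟨x, rfl⟩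
      exact ⟨inclusion hHM x, mem_subgroupOf.2 x.2, rfl⟩
    · rintro ⟨x, hx, rfl⟩
      exact ⟨⟨x, mem_subgroupOf.1 hx⟩, rfl⟩
  have h : N ≤ φ0.range := h8 ▸ hle
  let φ : ↥H →* ↥φ0.range := φ0.rangeRestrict
  have hφ : Function.Surjective φ := φ0.rangeRestrict_surjective
  have hφk : φ.ker = φ0.ker := φ0.ker_rangeRestrict
  obtain ⟨h3, ⟨e⟩, h4⟩ := calL_of_hom hL φ hφ (hφk ▸ hker0) (hN.subgroupOf h) (by
    rw [← (Cfsg.Agent.Lib.Cores.map_equiv_pCore (subgroupOfEquivOfLe h).symm 2), hO, Subgroup.map_bot])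
  exact ⟨h3, ⟨e.trans (subgroupOfEquivOfLe h)⟩, h4⟩

end Cfsg.Agent.H1.Tight
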