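import Mathlib
import Cfsg.Agent.H1.TightTwo
import Cfsg.Agent.QTKE.Base
import Cfsg.Agent.H1.Over
import Cfsg.Agent.H4.LfTrans
import Cfsg.Agent.KFacts.RgdFilt
import Cfsg.Agent.KFacts.RgdSyl
import Cfsg.Agent.KFacts.RgdEx

/-!
# `ℒ(G, T)` for groups with a filtered root group datum of characteristic 2 (helper1)
-/

set_option autoImplicit false
set_option linter.unusedSectionVars false

namespace Cfsg.Agent.H1.RgdRow

open CoxeterSystem Cfsg.Agent.ChevalleyStructure.CoxeterGeom Cfsg.Agent.Tits.Roots Cfsg.Agent.Tits.Core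
  Cfsg.Agent.Tits.RootComb Cfsg.Agent.Tits.Exchange Cfsg.Agent.Nodes.Reps Cfsg.Agent.Nodes.BNOf
  Cfsg.Agent.Nodes.StabComb Cfsg.Agent.Nodes.Bruhat Cfsg.Agent.Nodes.OppDec Cfsg.Agent.Nodes.LeviDec
  Cfsg.Agent.KFacts.RgdBorelTits Cfsg.Agent.KFacts.RgdFilt Cfsg.Agent.H1.Over
open scoped commutatorElement

variable {I W Y : Type*} [Fintype I] [DecidableEq I] [Group W] [Group Y] {M : CoxeterMatrix I}
  {cs : CoxeterSystem M W} {A : I → I → ℤ} {h : IsCartan M A} {p : ℕ} {T : Subgroup Y} {n : I → Y}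
  {X : (I → ℤ) → Subgroup Y} {R : RGD cs h p T n X} {F : (I → ℤ) → ℝ → Subgroup Y}

theorem exists_sylow [Finite W] [Finite Y] [Fact p.Prime] (R : RGD cs h p T n X) (hG : GG cs h T X = ⊤) :
    ∃ S : Sylow p Y, (S : Subgroup Y) = RGD.Sup X (RGD.Pos cs h) := by
  have h1 := KFacts.RgdSyl.not_dvd_relIndex R
  rw [hG, Subgroup.relIndex_top_right] at h1
  exact ⟨R.isPGroup_Upos.toSylow h1, rfl⟩

/-- **Borel–Tits for overgroups of `U`.** -/
theorem le_PJ_of_core [Finite W] [Finite Y] [Fact p.Prime] (hF : Filt R F) (hG : Nodes.RGDLib.G1 cs h X = ⊤)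
    {H : Subgroup Y} (hU : RGD.Sup X (RGD.Pos cs h) ≤ H) (hO : pCore p H ≠ ⊥) :
    JH X H ≠ Set.univ ∧ H ≤ PJ cs h T X (JH X H) := by
  have hGG := GG_eq_top (T := T) hG
  obtain ⟨S, hS⟩ := exists_sylow R hGG
  set K : Subgroup Y := (pCore p H).map H.subtype with hK
  have hKp : IsPGroup p K := (Lib.Cores.pCore_isPGroup p).map _
  have hK1 : K ≠ ⊥ := fun h0 => hO ((Subgroup.map_eq_bot_iff_of_injective _ H.subtype_injective).1 h0)
  obtain ⟨g, J, hJ, -, hle⟩ := borel_tits_of_filt hF hG hKp hK1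
  have hHK : H ≤ Subgroup.normalizer (K : Set Y) := by
    intro x hx
    rw [Subgroup.mem_normalizer_iff]
    have key : ∀ x ∈ H, ∀ y ∈ K, x * y * x⁻¹ ∈ K := by
      rintro x hx _ ⟨y, hy, rfl⟩
      exact ⟨⟨x, hx⟩ * y * ⟨x, hx⟩⁻¹, (Lib.Cores.pCore_normal p).conj_mem y hy ⟨x, hx⟩, rfl⟩
    intro y
    refine ⟨key x hx y, fun h1 => ?_⟩
    have h2 := key x⁻¹ (inv_mem hx) _ h1
    have e : x⁻¹ * (x * y * x⁻¹) * x⁻¹⁻¹ = y := by group
    rwa [e] at h2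
  set P' : Subgroup Y := cj g (PJ cs h T X J) with hP'
  have hHP : H ≤ P' := hHK.trans hle
  -- `U` and `g U g⁻¹` are Sylow subgroups of `P'`
  have hUP : RGD.Sup X (RGD.Pos cs h) ≤ PJ cs h T X J := RGD.U_le_B.trans B_le_PJ
  have hUP' : cj g (RGD.Sup X (RGD.Pos cs h)) ≤ P' := cj_mono g hUP
  obtain ⟨x, hx, he⟩ : ∃ x ∈ P', cj x (cj g (RGD.Sup X (RGD.Pos cs h))) = RGD.Sup X (RGD.Pos cs h) := by
    have hS1 : (S : Subgroup Y) ≤ P' := hS ▸ hU.trans hHP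
    have hS2 : ((g • S : Sylow p Y) : Subgroup Y) ≤ P' := by
      rw [Sylow.coe_subgroup_smul]
      change cj g (S : Subgroup Y) ≤ P'
      rw [hS]; exact hUP'
    let S1 : Sylow p P' := S.subtype hS1
    let S2 : Sylow p P' := (g • S).subtype hS2
    obtain ⟨x, hx⟩ := MulAction.exists_smul_eq P' S2 S1
    refine ⟨x, x.2, ?_⟩
    have h1 : ((x • S2 : Sylow p P') : Subgroup P').map P'.subtype = (S1 : Subgroup P').map P'.subtype := by rw [hx]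
    have h2 : ((S1 : Subgroup P').map P'.subtype) = RGD.Sup X (RGD.Pos cs h) := by
      rw [Sylow.coe_subtype, Subgroup.subgroupOf_map_subtype, inf_eq_left.2 hS1, hS]
    rw [h2] at h1
    have h3 : ((x • S2 : Sylow p P') : Subgroup P') = (S2 : Subgroup P').map (MulAut.conj x).toMonoidHom := by
      rw [Sylow.coe_subgroup_smul]; rfl
    have h4 : ((S2 : Subgroup P').map P'.subtype) = cj g (RGD.Sup X (RGD.Pos cs h)) := by
      rw [Sylow.coe_subtype, Subgroup.subgroupOf_map_subtype, inf_eq_left.2 hS2, Sylow.coe_subgroup_smul, ← hS]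
      rfl
    rw [← h4, ← h1, h3]
    ext y
    constructor
    · rintro ⟨_, ⟨z, hz, rfl⟩, rfl⟩
      exact ⟨_, ⟨z, hz, rfl⟩, rfl⟩
    · rintro ⟨_, ⟨z, hz, rfl⟩, rfl⟩
      exact ⟨_, ⟨z, hz, rfl⟩, rfl⟩
  have hxg : x * g ∈ RGD.B cs h T X := by
    rw [← KFacts.RgdEx.normalizer_U R, hGG, inf_top_eq, mem_normalizer_iff_cj, cj_mul]
    exact he
  have hP : P' = PJ cs h T X J := by
    have h1 : cj x P' = P' := cj_eq_of_mem hx
    rw [← h1, hP', ← cj_mul]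
    exact cj_eq_of_mem (B_le_PJ hxg)
  rw [hP] at hHP
  refine ⟨fun hu => hJ ?_, le_PJ R hU (hGG ▸ le_top)⟩
  have h1 := JH_subset R hU hHP
  rw [hu] at h1
  exact Set.univ_subset_iff.1 h1

/-- the data of a nonsolvable node set `J`: `L_J` is solvable modulo the quasisimple group `N` -/
structure NodeD (cs : CoxeterSystem M W) (h : IsCartan M A) (T : Subgroup Y) (X : (I → ℤ) → Subgroup Y) (J : Set I)
    (N : Subgroup Y) : Prop where
  le : N ≤ RGD.Sup X (RootsJ cs h J)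
  qs : IsQuasisimple N
  core : pCore 2 N = ⊥
  ex : ∃ K : Subgroup Y, Group.IsSolvable K ∧ K ≤ LJ cs h T X J ∧ K ≤ Subgroup.normalizer (N : Set Y) ∧
    LJ cs h T X J ≤ K ⊔ N

theorem NodeD.norm {J : Set I} {N : Subgroup Y} (hN : NodeD cs h T X J N) :
    LJ cs h T X J ≤ Subgroup.normalizer (N : Set Y) := by
  obtain ⟨K, -, -, h1, h2⟩ := hN.ex
  exact h2.trans (sup_le h1 Subgroup.le_normalizer)

theorem VJ_isPGroup [Finite W] (R : RGD cs h p T n X) (J : Set I) : IsPGroup p (VJ cs h X J) :=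
  R.isPGroup_Upos.to_le (VJ_le_U J)

theorem isSolvable_sup {K V : Subgroup Y} (hK : Group.IsSolvable K) (hV : Group.IsSolvable V)
    (hn : K ≤ Subgroup.normalizer (V : Set Y)) : Group.IsSolvable ↥(K ⊔ V) := by
  have hVn : (V.subgroupOf (K ⊔ V)).Normal :=
    Subgroup.normal_subgroupOf_iff_le_normalizer le_sup_right |>.2 (sup_le hn Subgroup.le_normalizer)
  let f : ↥K →* ↥(K ⊔ V) ⧸ V.subgroupOf (K ⊔ V) := (QuotientGroup.mk' _).comp (Subgroup.inclusion le_sup_left)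
  have hf : Function.Surjective f := by
    intro y
    obtain ⟨⟨x, hx⟩, rfl⟩ := QuotientGroup.mk'_surjective _ y
    have h1 : x ∈ ((K ⊔ V : Subgroup Y) : Set Y) := hx
    rw [Subgroup.coe_mul_of_left_le_normalizer_right _ _ hn, Set.mem_mul] at h1
    obtain ⟨k, hk, v, hv, rfl⟩ := h1
    refine ⟨⟨k, hk⟩, ?_⟩
    change QuotientGroup.mk' _ (⟨k, _⟩ : ↥(K ⊔ V)) = QuotientGroup.mk' _ (⟨k * v, hx⟩ : ↥(K ⊔ V))
    rw [QuotientGroup.mk'_eq_mk']
    exact ⟨⟨v, Subgroup.mem_sup_right hv⟩, Subgroup.mem_subgroupOf.2 hv, rfl⟩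
  have h1 : Group.IsSolvable (↥(K ⊔ V) ⧸ V.subgroupOf (K ⊔ V)) := Group.isSolvable_of_surjective hf
  have h2 : Group.IsSolvable ↥(V.subgroupOf (K ⊔ V)) :=
    Group.isSolvable_of_isSolvable_injective
      (f := (Subgroup.subgroupOfEquivOfLe (le_sup_right : V ≤ K ⊔ V)).toMonoidHom)
      (Subgroup.subgroupOfEquivOfLe (le_sup_right : V ≤ K ⊔ V)).injective
  exact Group.isSolvable_of_ker_le_range (V.subgroupOf (K ⊔ V)).subtype (QuotientGroup.mk' (V.subgroupOf (K ⊔ V)))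
    (by rw [QuotientGroup.ker_mk', Subgroup.range_subtype])

section main

variable {Y : Type*} [Group Y] {T : Subgroup Y} {n : I → Y} {X : (I → ℤ) → Subgroup Y} {R : RGD cs h 2 T n X}
  {F : (I → ℤ) → ℝ → Subgroup Y}

/-- **Members of `ℒ(Y, U)`**. -/
theorem calL_U [Finite W] [Finite Y] (hF : Filt R F) (hG : Nodes.RGDLib.G1 cs h X = ⊤)
    {Pr : Set I → Subgroup Y → Prop}
    (hD : ∀ J : Set I, J ≠ Set.univ → Group.IsSolvable (LJ cs h T X J) ∨ ∃ N, NodeD cs h T X J N ∧ Pr J N)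
    {L : Subgroup Y} (hL : L ∈ calL (RGD.Sup X (RGD.Pos cs h))) :
    ∃ (J : Set I) (N : Subgroup Y), J ≠ Set.univ ∧ NodeD cs h T X J N ∧ Pr J N ∧
      J = JH X (L ⊔ RGD.Sup X (RGD.Pos cs h)) ∧
      L ⊔ RGD.Sup X (RGD.Pos cs h) ≤ Subgroup.normalizer (L : Set Y) ∧ Nonempty ((L ⧸ pCore 2 L) ≃* N) := by
  have h2p : Fact (Nat.Prime 2) := ⟨Nat.prime_two⟩
  set U := RGD.Sup X (RGD.Pos cs h) with hU
  obtain ⟨hJ, hHP⟩ := le_PJ_of_core hF hG (H := L ⊔ U) le_sup_right hL.2.2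
  set J := JH X (L ⊔ U) with hJdef
  have hVn : PJ cs h T X J ≤ Subgroup.normalizer (VJ cs h X J : Set Y) := PJ_le_normalizer_VJ R J
  have hVp : IsPGroup 2 (VJ cs h X J) := VJ_isPGroup R J
  have hVs : Group.IsSolvable (VJ cs h X J) := by
    have := hVp.isNilpotent
    infer_instance
  rcases hD J hJ with hs | ⟨N, hN, hPr⟩
  · exfalso
    have h1 : Group.IsSolvable ↥(PJ cs h T X J) := isSolvable_sup hs hVs (LJ_le_normalizer_VJ R J)
    refine Tight.not_solvable_of_calL hL ?_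
    exact Group.isSolvable_of_isSolvable_injective (f := Subgroup.inclusion hHP) (Subgroup.inclusion_injective hHP)
  refine ⟨J, N, hJ, hN, hPr, rfl, ?_⟩
  set P := PJ cs h T X J with hP
  have hVP : VJ cs h X J ≤ P := VJ_le_PJ
  have hLP : LJ cs h T X J ≤ P := LJ_le_PJ
  have hNL : N ≤ LJ cs h T X J := hN.le.trans (RGD.Sup_le fun x hx => X_le_LJ hx)
  have hNP : N ≤ P := hNL.trans hLP
  have hVPn : ((VJ cs h X J).subgroupOf P).Normal :=
    Subgroup.normal_subgroupOf_iff_le_normalizer hVP |>.2 hVn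
  set ψ : ↥P →* ↥P ⧸ (VJ cs h X J).subgroupOf P := QuotientGroup.mk' ((VJ cs h X J).subgroupOf P) with hψ
  have hker : IsPGroup 2 ψ.ker := by
    rw [hψ, QuotientGroup.ker_mk']
    exact hVp.comap_subtype
  -- every element of `P / V` comes from `L_J`
  have hsurj : ∀ y : ↥P ⧸ (VJ cs h X J).subgroupOf P, ∃ l : Y, ∃ hl : l ∈ LJ cs h T X J, ψ ⟨l, hLP hl⟩ = y := by
    intro y
    obtain ⟨⟨x, hx⟩, rfl⟩ := QuotientGroup.mk'_surjective _ y
    obtain ⟨l, hl, v, hv, rfl⟩ := (mem_PJ R).1 hx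
    refine ⟨l, hl, ?_⟩
    rw [hψ, QuotientGroup.mk'_eq_mk']
    exact ⟨⟨v, hVP hv⟩, Subgroup.mem_subgroupOf.2 hv, rfl⟩
  set N' : Subgroup (↥P ⧸ (VJ cs h X J).subgroupOf P) := (N.subgroupOf P).map ψ with hN'
  have hNn : N'.Normal := by
    refine ⟨?_⟩
    rintro _ ⟨⟨x, hxP⟩, hx, rfl⟩ y
    obtain ⟨l, hl, rfl⟩ := hsurj y
    have hx' : x ∈ N := Subgroup.mem_subgroupOf.1 hx
    have h1 : l * x * l⁻¹ ∈ N := (Subgroup.mem_normalizer_iff.1 (hN.norm hl) x).1 hx'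
    refine ⟨⟨l * x * l⁻¹, hNP h1⟩, Subgroup.mem_subgroupOf.2 h1, ?_⟩
    rw [← map_mul, ← map_inv, ← map_mul]
    rfl
  -- `N ≃ N'`
  let f : ↥N →* ↥N' := (ψ.comp (Subgroup.inclusion hNP)).codRestrict N' fun x =>
    ⟨⟨x, hNP x.2⟩, Subgroup.mem_subgroupOf.2 x.2, rfl⟩
  have hfi : Function.Injective f := by
    rw [← MonoidHom.ker_eq_bot_iff, eq_bot_iff]
    intro x hx
    have h1 : ψ ⟨x, hNP x.2⟩ = 1 := congrArg Subtype.val (MonoidHom.mem_ker.1 hx)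
    have h2 : (⟨(x : Y), hNP x.2⟩ : ↥P) ∈ ψ.ker := MonoidHom.mem_ker.2 h1
    rw [hψ, QuotientGroup.ker_mk', Subgroup.mem_subgroupOf] at h2
    have h3 : (x : Y) ∈ LJ cs h T X J ⊓ VJ cs h X J := ⟨hNL x.2, h2⟩
    rw [LJ_inf_VJ R J, Subgroup.mem_bot] at h3
    exact Subgroup.mem_bot.2 (Subtype.ext h3)
  have hfs : Function.Surjective f := by
    rintro ⟨_, ⟨x, hxP⟩, hx, rfl⟩
    exact ⟨⟨x, Subgroup.mem_subgroupOf.1 hx⟩, rfl⟩
  let e : ↥N ≃* ↥N' := MulEquiv.ofBijective f ⟨hfi, hfs⟩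
  have hqs : IsQuasisimple N' := QTKE.isQuasisimple_congr e hN.qs
  have hcore : pCore 2 N' = ⊥ := by
    rw [← Lib.Cores.map_equiv_pCore e 2, hN.core, Subgroup.map_bot]
  have hquot : Group.IsSolvable ((↥P ⧸ (VJ cs h X J).subgroupOf P) ⧸ N') := by
    obtain ⟨K, hKs, hKL, hKN, hLK⟩ := hN.ex
    let g : ↥K →* (↥P ⧸ (VJ cs h X J).subgroupOf P) ⧸ N' :=
      ((QuotientGroup.mk' N').comp ψ).comp (Subgroup.inclusion (hKL.trans hLP))
    refine Group.isSolvable_of_surjective (f := g) ?_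
    intro y
    obtain ⟨y, rfl⟩ := QuotientGroup.mk'_surjective _ y
    obtain ⟨l, hl, rfl⟩ := hsurj y
    have h1 : l ∈ ((K ⊔ N : Subgroup Y) : Set Y) := hLK hl
    rw [Subgroup.coe_mul_of_left_le_normalizer_right _ _ hKN, Set.mem_mul] at h1
    obtain ⟨k, hk, v, hv, rfl⟩ := h1
    refine ⟨⟨k, hk⟩, ?_⟩
    change QuotientGroup.mk' N' (ψ ⟨k, _⟩) = QuotientGroup.mk' N' (ψ ⟨k * v, hLP hl⟩)
    rw [QuotientGroup.mk'_eq_mk']
    refine ⟨ψ ⟨v, hNP hv⟩, ⟨⟨v, hNP hv⟩, Subgroup.mem_subgroupOf.2 hv, rfl⟩, ?_⟩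
    rw [← map_mul]
    rfl
  have htame := Tight.Tame.of_quasisimple hqs hquot
  have hUP : U ≤ P := RGD.U_le_B.trans B_le_PJ
  obtain ⟨h1, ⟨e1⟩, -⟩ := Tight.calL_of_le hL hUP (le_sup_left.trans hHP) ψ hker htame hcore (by
    rintro _ ⟨⟨x, hxP⟩, hx, rfl⟩
    refine ⟨⟨x, hxP⟩, ?_, rfl⟩
    exact Subgroup.mem_subgroupOf.2 (rootsJ_le R le_sup_right (hN.le (Subgroup.mem_subgroupOf.1 hx))))
  exact ⟨h1, ⟨e1.trans e.symm⟩⟩

end main

section rows

universe u v w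

/-- the row predicate: every member `L` of `ℒ(G, T)` is normalised by `T` and `L / O_2(L)` is one of the groups `Q i` -/
def RowL {ι : Type*} (Q : ι → Type w) [∀ i, Group (Q i)] (G : Type u) [Group G] : Prop :=
  ∀ (S : Sylow 2 G), ∀ L ∈ calL (S : Subgroup G), (S : Subgroup G) ≤ Subgroup.normalizer (L : Set G) ∧
    ∃ i, Nonempty ((L ⧸ pCore 2 L) ≃* Q i)

/-- transport along an isomorphism -/
theorem RowL.congr {ι : Type*} {Q : ι → Type w} [∀ i, Group (Q i)] {G : Type u} {K : Type v} [Group G] [Group K]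
    [Finite G] (e : G ≃* K) (hK : RowL Q K) : RowL Q G := by
  intro S L hL
  have h1 : L.map e.toMonoidHom ∈ calL ((H4.LfTrans.mapSylow e S : Subgroup K)) := by
    rw [H4.LfTrans.coe_mapSylow]
    exact H4.LfTrans.map_mem_calL e hL
  obtain ⟨h2, i, ⟨f⟩⟩ := hK _ _ h1
  refine ⟨?_, i, ?_⟩
  · intro x hx
    have h3 : e x ∈ Subgroup.normalizer ((L.map e.toMonoidHom : Subgroup K) : Set K) :=
      h2 (by rw [H4.LfTrans.coe_mapSylow]; exact ⟨x, hx, rfl⟩)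
    rw [Subgroup.mem_normalizer_iff] at h3 ⊢
    intro y
    have h4 : ∀ z : G, z ∈ L ↔ e z ∈ L.map e.toMonoidHom := fun z =>
      ⟨fun hz => ⟨z, hz, rfl⟩, fun ⟨z', hz', he⟩ => e.injective he ▸ hz'⟩
    rw [h4, h4, map_mul, map_mul, map_inv]
    exact h3 (e y)
  · have e1 : (L ⧸ pCore 2 L) ≃* (↥(L.map e.toMonoidHom) ⧸ pCore 2 ↥(L.map e.toMonoidHom)) :=
      QuotientGroup.congr _ _ (e.subgroupMap L) (Lib.Cores.map_equiv_pCore _ 2)
    exact ⟨e1.trans f⟩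

/-- one Sylow subgroup suffices -/
theorem RowL.of_one {ι : Type*} {Q : ι → Type w} [∀ i, Group (Q i)] {G : Type u} [Group G] [Finite G] (S₀ : Sylow 2 G)
    (h : ∀ L ∈ calL (S₀ : Subgroup G), (S₀ : Subgroup G) ≤ Subgroup.normalizer (L : Set G) ∧
      ∃ i, Nonempty ((L ⧸ pCore 2 L) ≃* Q i)) : RowL Q G := by
  intro S L hL
  obtain ⟨g, hg⟩ := H4.LfTrans.exists_conj S S₀
  have h1 : L.map (MulAut.conj g).toMonoidHom ∈ calL (S₀ : Subgroup G) := by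
    rw [hg]
    exact H4.LfTrans.map_mem_calL (MulAut.conj g) hL
  obtain ⟨h2, i, ⟨f⟩⟩ := h _ h1
  refine ⟨?_, i, ?_⟩
  · intro x hx
    have h3 : MulAut.conj g x ∈ Subgroup.normalizer ((L.map (MulAut.conj g).toMonoidHom : Subgroup G) : Set G) :=
      h2 (by rw [hg]; exact ⟨x, hx, rfl⟩)
    rw [Subgroup.mem_normalizer_iff] at h3 ⊢
    intro y
    have h4 : ∀ z : G, z ∈ L ↔ MulAut.conj g z ∈ L.map (MulAut.conj g).toMonoidHom := fun z =>
      ⟨fun hz => ⟨z, hz, rfl⟩, fun ⟨z', hz', he⟩ => (MulAut.conj g).injective he ▸ hz'⟩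
    rw [h4, h4, map_mul, map_mul, map_inv]
    exact h3 _
  · have e1 : (L ⧸ pCore 2 L) ≃* (↥(L.map (MulAut.conj g).toMonoidHom) ⧸ pCore 2 ↥(L.map (MulAut.conj g).toMonoidHom)) :=
      QuotientGroup.congr _ _ ((MulAut.conj g).subgroupMap L) (Lib.Cores.map_equiv_pCore _ 2)
    exact ⟨e1.trans f⟩

/-- **The row of a group with a filtered root group datum of characteristic 2.** -/
theorem rowL_of_rgd {Y : Type v} [Group Y] {T : Subgroup Y} {n : I → Y} {X : (I → ℤ) → Subgroup Y}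
    {R : RGD cs h 2 T n X} {F : (I → ℤ) → ℝ → Subgroup Y} [Finite W] [Finite Y] (hF : Filt R F)
    (hG : Nodes.RGDLib.G1 cs h X = ⊤) {ι : Type*} {Q : ι → Type w} [∀ i, Group (Q i)]
    (hD : ∀ J : Set I, J ≠ Set.univ → Group.IsSolvable (LJ cs h T X J) ∨
      ∃ N, NodeD cs h T X J N ∧ ∃ i, Nonempty (N ≃* Q i)) : RowL Q Y := by
  have h2p : Fact (Nat.Prime 2) := ⟨Nat.prime_two⟩
  obtain ⟨S, hS⟩ := exists_sylow R (GG_eq_top hG)
  refine RowL.of_one S fun L hL => ?_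
  rw [hS] at hL ⊢
  obtain ⟨J, N, -, -, ⟨i, ⟨f⟩⟩, -, h1, ⟨e⟩⟩ := calL_U (Pr := fun _ N => ∃ i, Nonempty (N ≃* Q i)) hF hG hD hL
  exact ⟨le_sup_right.trans h1, i, ⟨e.trans f⟩⟩

end rows

end Cfsg.Agent.H1.RgdRow
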