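import Mathlib
import Cfsg.Agent.H1.RgdRow
import Cfsg.Agent.CpQuot.Quo

/-!
# Groups of Lie rank two in characteristic 2: `ℒ(G, T)` (helper1)

* `nodeD_of_simple` : `⟨X_i, X_{-i}⟩` is an image of the simple group `Q`;
* `rowL_two` : the row of a group of Lie rank two.
-/

set_option autoImplicit false
set_option linter.unusedSectionVars false

namespace Cfsg.Agent.H1.RankTwo

open CoxeterSystem Cfsg.Agent.ChevalleyStructure.CoxeterGeom Cfsg.Agent.Tits.Roots Cfsg.Agent.Tits.Core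
  Cfsg.Agent.Tits.RootComb Cfsg.Agent.Tits.Exchange Cfsg.Agent.Nodes.Reps Cfsg.Agent.Nodes.BNOf
  Cfsg.Agent.Nodes.StabComb Cfsg.Agent.Nodes.Bruhat Cfsg.Agent.Nodes.OppDec Cfsg.Agent.Nodes.LeviDec
  Cfsg.Agent.KFacts.RgdBorelTits Cfsg.Agent.KFacts.RgdFilt Cfsg.Agent.H1.Over Cfsg.Agent.H1.RgdRow
open scoped commutatorElement

universe u v w

section general

/-- a nonabelian simple group is quasisimple -/
theorem isQuasisimple_of_simple (Q : Type*) [Group Q] [IsSimpleGroup Q] (hQ : ¬ IsMulCommutative Q) :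
    IsQuasisimple Q := by
  have hc : Subgroup.center Q = ⊥ := by
    rcases (inferInstance : (Subgroup.center Q).Normal).eq_bot_or_eq_top with h | h
    · exact h
    · exact (hQ (by rwa [← Subgroup.center_eq_top_iff])).elim
  refine ⟨?_, ?_⟩
  · rw [Group.isPerfect_def]
    rcases (inferInstance : (commutator Q).Normal).eq_bot_or_eq_top with h | h
    · refine (hQ ?_).elim
      rw [commutator_eq_bot_iff_center_eq_top, Subgroup.center_eq_top_iff] at h
      exact h
    · exact h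
  · exact (MulEquiv.isSimpleGroup_congr ((QuotientGroup.quotientMulEquivOfEq hc).trans
      (QuotientGroup.quotientBot (G := Q)))).2 inferInstance

/-- `O_p` of a nonabelian simple group -/
theorem pCore_of_simple (p : ℕ) [Fact p.Prime] (Q : Type*) [Group Q] [Finite Q] [IsSimpleGroup Q]
    (hQ : ¬ IsMulCommutative Q) : pCore p Q = ⊥ := by
  rcases (Lib.Cores.pCore_normal (G := Q) p).eq_bot_or_eq_top with h | h
  · exact h
  · exfalso
    have h1 : IsPGroup p Q := by
      rwa [Lib.Cores.pCore_eq_top_iff] at h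
    have h2 : Nontrivial (Subgroup.center Q) := h1.center_nontrivial
    rcases (inferInstance : (Subgroup.center Q).Normal).eq_bot_or_eq_top with h3 | h3
    · rw [h3] at h2
      exact (not_nontrivial_iff_subsingleton.2 inferInstance) h2
    · exact hQ (by rwa [← Subgroup.center_eq_top_iff])

end general

variable {I W : Type*} [Fintype I] [DecidableEq I] [Group W] {M : CoxeterMatrix I}
  {cs : CoxeterSystem M W} {A : I → I → ℤ} {h : IsCartan M A}

section node

variable {Y : Type v} [Group Y] {T : Subgroup Y} {n : I → Y} {X : (I → ℤ) → Subgroup Y}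

theorem rootsJ_single (i : I) {x : I → ℤ} (hx : x ∈ RootsJ cs h {i}) : x = sr i ∨ x = -sr i := by
  obtain ⟨hr, h0⟩ := hx
  rcases hr.pos_or_neg with h2 | h2
  · exact Or.inl (hr.eq_sr h2 i fun k hk => h0 k hk)
  · right
    have h3 := hr.neg.eq_sr (neg_nonneg.2 h2) i fun k hk => by rw [Pi.neg_apply, h0 k hk, neg_zero]
    rw [← h3, neg_neg]

theorem Sup_single (i : I) : RGD.Sup X (RootsJ cs h {i}) = X (sr i) ⊔ X (-sr i) := by
  apply le_antisymm
  · refine RGD.Sup_le fun x hx => ?_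
    rcases rootsJ_single i hx with rfl | rfl
    · exact le_sup_left
    · exact le_sup_right
  · exact sup_le (RGD.le_Sup (PosJ_subset _ (sr_mem_PosJ (Set.mem_singleton i))))
      (RGD.le_Sup (RootsJ.neg (PosJ_subset _ (sr_mem_PosJ (Set.mem_singleton i)))))

/-- the data for node `i` : `⟨X_i, X_{-i}⟩` is an image of the nonabelian simple group `Q` -/
theorem nodeD_of_simple [Finite Y] (R : RGD cs h 2 T n X) (hT : Group.IsSolvable T) (i : I) {Q : Type w} [Group Q]
    [Finite Q] [IsSimpleGroup Q] (hQ : ¬ IsMulCommutative Q) (φ : Q →* Y) (hφ : φ.range = X (sr i) ⊔ X (-sr i)) :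
    NodeD cs h T X {i} (X (sr i) ⊔ X (-sr i)) ∧ Nonempty (↥(X (sr i) ⊔ X (-sr i)) ≃* Q) := by
  have h2 : Fact (Nat.Prime 2) := ⟨Nat.prime_two⟩
  have hinj : Function.Injective φ := by
    rw [← MonoidHom.ker_eq_bot_iff]
    rcases (inferInstance : φ.ker.Normal).eq_bot_or_eq_top with h1 | h1
    · exact h1
    · exfalso
      apply R.notp i
      rw [← hφ]
      have h3 : φ.range = ⊥ := by
        rw [eq_bot_iff]
        rintro _ ⟨x, rfl⟩
        have : x ∈ φ.ker := by rw [h1]; exact Subgroup.mem_top _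
        exact Subgroup.mem_bot.2 (MonoidHom.mem_ker.1 this)
      rw [h3]
      exact IsPGroup.of_bot
  let e : Q ≃* ↥(X (sr i) ⊔ X (-sr i)) := (MonoidHom.ofInjective hinj).trans (MulEquiv.subgroupCongr hφ)
  refine ⟨⟨?_, ?_, ?_, T, hT, T_le_LJ, ?_, ?_⟩, ⟨e.symm⟩⟩
  · rw [Sup_single]
  · exact QTKE.isQuasisimple_congr e (isQuasisimple_of_simple Q hQ)
  · rw [← Lib.Cores.map_equiv_pCore e 2, pCore_of_simple 2 Q hQ, Subgroup.map_bot]
  · intro t ht
    rw [mem_normalizer_iff_cj, cj_sup]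
    have h1 := R.tor _ (isRoot_sr cs h i) t ht
    have h2 := R.tor _ (isRoot_sr cs h i).neg t ht
    rw [h1, h2]
  · rw [← Sup_single (cs := cs) (h := h)]
    exact le_rfl

theorem LJ_empty : LJ cs h T X ∅ = T := by
  unfold LJ
  have : RootsJ cs h ∅ = ∅ := by
    ext x
    simp only [Set.mem_empty_iff_false, iff_false]
    rintro ⟨hr, h0⟩
    exact hr.ne_zero (funext fun k => h0 k (Set.notMem_empty k))
  rw [this, Sup_empty, sup_bot_eq]

end node

section two

variable {W : Type*} [Group W] {M : CoxeterMatrix (Fin 2)} {cs : CoxeterSystem M W} {A : Fin 2 → Fin 2 → ℤ}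
  {h : IsCartan M A} {Y : Type v} [Group Y] {T : Subgroup Y} {n : Fin 2 → Y} {X : (Fin 2 → ℤ) → Subgroup Y}
  {R : RGD cs h 2 T n X} {F : (Fin 2 → ℤ) → ℝ → Subgroup Y}

/-- **The row of a group of Lie rank two in characteristic 2.** -/
theorem rowL_two [Finite W] [Finite Y] (hF : Filt R F) (hG : Nodes.RGDLib.G1 cs h X = ⊤) (hT : Group.IsSolvable T)
    {Q : Fin 2 → Type w} [∀ i, Group (Q i)] [∀ i, Finite (Q i)]
    (hQ : ∀ i, Group.IsSolvable ↥(LJ cs h T X {i}) ∨ (IsSimpleGroup (Q i) ∧ ¬ IsMulCommutative (Q i) ∧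
      ∃ φ : Q i →* Y, φ.range = X (sr i) ⊔ X (-sr i))) : RowL Q Y := by
  refine rowL_of_rgd hF hG fun J hJ => ?_
  by_cases h0 : J = ∅
  · left
    rw [h0, LJ_empty]
    exact hT
  obtain ⟨i, rfl⟩ : ∃ i : Fin 2, J = {i} := by
    obtain ⟨k, hk⟩ : ∃ k, k ∉ J := by
      by_contra h4
      push Not at h4
      exact hJ (Set.eq_univ_iff_forall.2 h4)
    obtain ⟨j, hj⟩ := Set.nonempty_iff_ne_empty.2 h0
    refine ⟨j, Set.eq_singleton_iff_unique_mem.2 ⟨hj, fun l hl => ?_⟩⟩
    have h1 : j ≠ k := fun h5 => hk (h5 ▸ hj)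
    have h2 : l ≠ k := fun h5 => hk (h5 ▸ hl)
    revert h1 h2
    clear hj hk hl
    revert j k l
    decide
  rcases hQ i with h1 | ⟨hs, hc, φ, hφ⟩
  · exact Or.inl h1
  · right
    obtain ⟨h2, h3⟩ := nodeD_of_simple R hT i hc φ hφ
    exact ⟨_, h2, i, h3⟩

end two

end Cfsg.Agent.H1.RankTwo
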