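import Cfsg.Agent.H3.Table
import Cfsg.Agent.H3.M24Row
import Cfsg.Agent.H2.TwFFin
import Cfsg.Agent.H1.SpSix
import Cfsg.Agent.H1.RowPSLFive
import Cfsg.Agent.H1.RowExc
import Cfsg.Agent.H1.RowU
import Cfsg.Agent.H1.NormSq
import Cfsg.Agent.H5.MaxOf
import Cfsg.Agent.SporadicA.MathieuRecog
import Cfsg.Agent.SmallSimple.PSLTwoPart
import Cfsg.Agent.S0252

/-!
# S1826 and S1828: assembly (helper1)

* `NormQ G`: `T ≤ N_G(L)` for all `L ∈ ℒ_f*(G, T)` with `L/O₂(L)` quasisimple;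
* `norm_main`: all groups of the quasithin list satisfy `NormQ` (modulo `Hyp`);
* `psl_main`: `L/O₂(L) ≅ L₂(2ⁿ)` (modulo `Hyp`).
-/

set_option autoImplicit false

namespace Cfsg.Agent.H1.Asm

open Subgroup Cfsg Cfsg.Agent.H4.LfTrans Cfsg.Agent.H5.Resid Cfsg.Agent.H1.RgdRow Cfsg.Agent.H1.QsNode
  Cfsg.Agent.H3.Table

universe u v w

/-- `T` normalises the members `L` of `ℒ_f*(G, T)` with `L/O₂(L)` quasisimple -/
def NormQ (G : Type u) [Group G] : Prop :=
  ∀ (T : Sylow 2 G), ∀ L ∈ calLfMax (T : Subgroup G), IsQuasisimple (↥L ⧸ pCore 2 ↥L) →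
    (T : Subgroup G) ≤ normalizer (L : Set G)

theorem NormQ.of_rowL {ι : Type*} {Q : ι → Type w} [∀ i, Group (Q i)] {G : Type u} [Group G] (h : RowL Q G) : NormQ G :=
  fun T L hL _ => (h T L hL.1.1).1

theorem NormQ.of_rowT {G : Type u} [Group G] (h : RowT G) : NormQ G :=
  fun T L hL _ => (h T L hL.1.1).trans le_normalizer

theorem NormQ.of_sq {G : Type u} [Group G] [Finite G] (hG : ∀ p : ℕ, p.Prime → 5 ≤ p → ¬ p * p ∣ Nat.card G) :
    NormQ G := fun T _ hL hq => NormSq.of_sq hG T hL.1.1 hq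

theorem sq_of {m a b c : ℕ} (h : m = 2 ^ a * 3 ^ b * c) {p : ℕ} (hp : p.Prime) (h5 : 5 ≤ p) (hd : p * p ∣ m) :
    p * p ∣ c := by
  rw [h] at hd
  have h2 : Nat.Coprime p 2 := (Nat.coprime_primes hp Nat.prime_two).2 (by omega)
  have h3 : Nat.Coprime p 3 := (Nat.coprime_primes hp Nat.prime_three).2 (by omega)
  have h4 : Nat.Coprime p (2 ^ a * 3 ^ b) := Nat.Coprime.mul_right (h2.pow_right a) (h3.pow_right b)
  exact (Nat.Coprime.mul_left h4 h4).dvd_of_dvd_mul_left hd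

theorem sq_m22 : ∀ p : ℕ, p.Prime → 5 ≤ p → ¬ p * p ∣ 443520 := by
  intro p hp h5 hd
  have h1 : p * p ∣ 385 := sq_of (m := 443520) (a := 7) (b := 2) (c := 385) (by norm_num) hp h5 hd
  have h2 := Nat.le_of_dvd (by norm_num) h1
  have h3 : p ≤ 19 := by nlinarith
  interval_cases p <;> revert h1 <;> norm_num

theorem sq_m23 : ∀ p : ℕ, p.Prime → 5 ≤ p → ¬ p * p ∣ 10200960 := by
  intro p hp h5 hd
  have h1 : p * p ∣ 8855 := sq_of (m := 10200960) (a := 7) (b := 2) (c := 8855) (by norm_num) hp h5 hd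
  have h2 := Nat.le_of_dvd (by norm_num) h1
  have h3 : p ≤ 94 := by nlinarith
  interval_cases p <;> revert h1 <;> norm_num

theorem norm_m22 {G : Type u} [Group G] [Finite G] (h : Spor.IsoM22 G) : NormQ G := by
  obtain ⟨e⟩ := h
  refine NormQ.of_sq ?_
  rw [Nat.card_congr e.toEquiv, SporadicA.MathieuRecog.card_M22]
  exact sq_m22

theorem norm_m23 {G : Type u} [Group G] [Finite G] (h : Spor.IsoM23 G) : NormQ G := by
  obtain ⟨e⟩ := h
  refine NormQ.of_sq ?_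
  rw [Nat.card_congr e.toEquiv, SporadicA.MathieuRecog.card_M23]
  exact sq_m23

theorem norm_m24 {G : Type u} [Group G] [Finite G] (h : Spor.IsoM24 G) : NormQ G := by
  obtain ⟨e⟩ := h
  intro T L hL _
  have h1 : L.map e.toMonoidHom ∈ calL ((mapSylow e T : Sylow 2 M24) : Subgroup M24) := by
    rw [coe_mapSylow]
    exact map_mem_calL e hL.1.1
  obtain ⟨h2, -⟩ := H3.M24Row.row24 _ h1
  rw [coe_mapSylow] at h2
  exact H4.Row128.map_le_normalizer e h2

theorem norm_a9 {G : Type u} [Group G] [Finite G] (hFT : H5.Top.FT.{u}) (hE : IsOfEvenCharacteristic G)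
    (e : G ≃* alternatingGroup (Fin 9)) : NormQ G := by
  have hc : Nat.card G = 181440 := by
    rw [Nat.card_congr e.toEquiv, nat_card_alternatingGroup, Nat.card_fin, show Nat.factorial 9 = 362880 by rfl]
  have h128 : ¬ 128 ∣ Nat.card G := by rw [hc]; norm_num
  intro T L hL _
  exact (H5.Row64.row64 hFT hE h128 T hL.1.1).1.trans le_normalizer

theorem charP_of_sq {F : Type*} [Field F] [Fintype F] {n k : ℕ}
    (hF : Fintype.card F = (2 ^ n) ^ k) : CharP F 2 := by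
  obtain ⟨p, hp⟩ := CharP.exists F
  obtain ⟨m, hpp, hm⟩ := FiniteField.card F p
  rw [hF, ← pow_mul] at hm
  have h4 : p ∣ 2 ^ (n * k) := by rw [hm]; exact dvd_pow_self p m.ne_zero
  have h5 : p = 2 := (Nat.prime_dvd_prime_iff_eq hpp Nat.prime_two).1 (hpp.dvd_of_dvd_pow h4)
  exact h5 ▸ hp

theorem norm_u4 {G : Type u} [Group G] [Finite G] (hFT : H5.Top.FT.{0}) {F : Type} [Field F] [Fintype F] {n : ℕ} (hn : 2 ≤ n)
    (hF : Fintype.card F = (2 ^ n) ^ 2) (e : G ≃* PSU 4 F (2 ^ n)) : NormQ G := by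
  have hc : CharP F 2 := charP_of_sq hF
  have h3 : 3 ≤ 2 ^ n := by
    calc 3 ≤ 2 ^ 2 := by norm_num
      _ ≤ 2 ^ n := Nat.pow_le_pow_right (by norm_num) hn
  obtain ⟨Q, -, h, -⟩ := RowU.row_model_four hF h3 (fun T hT => hFT T hT)
  exact NormQ.of_rowL (RowL.congr e h)

theorem norm_u5 {G : Type u} [Group G] [Finite G] (hFT : H5.Top.FT.{0}) {F : Type} [Field F] [Fintype F] {n : ℕ} (hn : 2 ≤ n)
    (hF : Fintype.card F = (2 ^ n) ^ 2) (e : G ≃* PSU 5 F (2 ^ n)) : NormQ G := by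
  have hc : CharP F 2 := charP_of_sq hF
  have h3 : 3 ≤ 2 ^ n := by
    calc 3 ≤ 2 ^ 2 := by norm_num
      _ ≤ 2 ^ n := Nat.pow_le_pow_right (by norm_num) hn
  obtain ⟨Q, h, -⟩ := RowU.row_model_five hF h3 (fun T hT => hFT T hT)
  exact NormQ.of_rowL (RowL.congr e h)

/-- the rows of other files -/
structure Hyp (G : Type u) [Group G] [Finite G] : Prop where
  resid : H5.Resid.Hyp G
  he : Spor.IsoHe G → NormQ G
  he_psl : Spor.IsoHe G → ∀ (T : Sylow 2 G), ∀ L ∈ calLf (T : Subgroup G),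
    ∀ (F : Type) (_ : Field F) (_ : Fintype F), CharP F 2 →
      IsEmpty (↥L ⧸ Cfsg.pCore 2 ↥L ≃* Matrix.ProjectiveSpecialLinearGroup (Fin 2) F)
  j4 : Spor.IsoJ4 G → NormQ G
  j4_psl : Spor.IsoJ4 G → ∀ (T : Sylow 2 G), ∀ L ∈ calLfMax (T : Subgroup G),
    ∀ (F : Type) (_ : Field F) (_ : Fintype F), CharP F 2 → 4 < Fintype.card F →
      IsEmpty (↥L ⧸ Cfsg.pCore 2 ↥L ≃* Matrix.ProjectiveSpecialLinearGroup (Fin 2) F)

/-- **S1826** -/
theorem norm_main {G : Type u} [Group G] [Finite G] [IsSimpleGroup G] (hFT : H5.Top.FT.{u}) (hFT0 : H5.Top.FT.{0})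
    (hE : IsOfEvenCharacteristic G) (hl : IsOnQTKEList G) (H : Hyp G) : NormQ G := by
  by_cases hR : InResidualCase G
  · intro T L hL _
    exact (main hFT hE hl hR H.resid T L ⟨hL.1.1, hL.2⟩).1
  · unfold InResidualCase at hR
    rw [not_and_or, not_and_or, not_and_or, not_and_or, not_not, not_not, not_not, not_not, not_not] at hR
    rcases hR with h | h | h | h | h
    · rcases h with ⟨F, _, _, hF, h4, ⟨⟨e⟩⟩ | ⟨⟨e⟩⟩ | ⟨⟨e⟩⟩⟩ | ⟨F, _, _, n, hn, hF, ⟨e⟩⟩ | ⟨F, _, _, hF, ⟨e⟩⟩ |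
        ⟨K, _, _, n, hn, hK, ⟨e⟩⟩ | h
      · exact NormQ.of_rowL (RowPSL.row_psl_three e)
      · exact NormQ.of_rowL (RowChev.row_pSp e)
      · exact NormQ.of_rowL (RowExc.row_gTwo e)
      · exact norm_u4 hFT0 hn hF e
      · exact norm_u5 hFT0 (n := 2) le_rfl (by rw [hF]; norm_num) e
      · have hc : CharP K 2 := charP_of_sq hK
        obtain ⟨F, _, _, _, -, h⟩ := RowExc.row_twD4 (⟨2, n, Nat.prime_two.prime, by omega, rfl⟩) hK e
        exact NormQ.of_rowL h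
      · exact NormQ.of_rowT (H2.TwF.rowT h)
    · obtain ⟨F, _, _, n, hn, hF, ⟨e⟩⟩ := h
      exact norm_u5 hFT0 hn hF e
    · obtain ⟨F, _, _, hF, ⟨⟨e⟩⟩ | ⟨⟨e⟩⟩⟩ := h
      · have hc : CharP F 2 := charP_of_sq (n := 1) (k := 1) (by rw [hF]; norm_num)
        exact NormQ.of_rowL (RowPSLFive.row_psl_four hF e)
      · have hc : CharP F 2 := charP_of_sq (n := 1) (k := 1) (by rw [hF]; norm_num)
        exact NormQ.of_rowL (RowPSLFive.row_psl_five hF e)
    · obtain ⟨e⟩ := h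
      exact norm_a9 hFT hE e
    · rcases h with h | h | h | h | h
      · exact norm_m22 h
      · exact norm_m23 h
      · exact norm_m24 h
      · exact H.he h
      · exact H.j4 h

/-! ### `L/O₂(L) ≅ L₂(2ⁿ)` -/

theorem card_ne {F : Type*} [Field F] [Fintype F] [CharP F 2] {n : ℕ} (hn : n = 168 ∨ n = 360 ∨ n = 1080 ∨ n = 20160)
    (h : Nat.card (Matrix.ProjectiveSpecialLinearGroup (Fin 2) F) = n) : False := by
  obtain ⟨m, -, hm⟩ := FiniteField.card F 2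
  have hm0 : (m : ℕ) ≠ 0 := m.ne_zero
  have he : Even (Fintype.card F) := by rw [hm]; exact (even_two).pow_of_ne_zero hm0
  rw [SmallSimple.PSLTwoPart.card_psl_two_even he, hm] at h
  rcases Nat.lt_or_ge (m : ℕ) 5 with h5 | h5
  · generalize (m : ℕ) = k at h h5
    interval_cases k <;> norm_num at h <;> omega
  · have h6 : 32 ≤ 2 ^ (m : ℕ) := by
      calc 32 = 2 ^ 5 := by norm_num
        _ ≤ 2 ^ (m : ℕ) := Nat.pow_le_pow_right (by norm_num) h5
    have h7 : 32 * (32 ^ 2 - 1) ≤ 2 ^ (m : ℕ) * ((2 ^ (m : ℕ)) ^ 2 - 1) :=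
      Nat.mul_le_mul h6 (Nat.sub_le_sub_right (Nat.pow_le_pow_left h6 2) 1)
    rw [h] at h7
    norm_num at h7
    omega

section

variable {G : Type u} [Group G] [Finite G] {T : Sylow 2 G} {L : Subgroup G} {F : Type} [Field F] [Fintype F] [CharP F 2]

omit [Finite G] in
theorem false_of_card {Q : Type*} [Group Q] {n : ℕ} (hn : n = 168 ∨ n = 360 ∨ n = 1080 ∨ n = 20160)
    (hQ : Nat.card Q = n) (e' : (↥L ⧸ pCore 2 ↥L) ≃* Q)
    (e : (↥L ⧸ pCore 2 ↥L) ≃* Matrix.ProjectiveSpecialLinearGroup (Fin 2) F) : False :=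
  card_ne (F := F) hn ((Nat.card_congr (e'.symm.trans e).toEquiv).symm.trans hQ)

omit [Finite G] in
theorem false_l3 (h : IsL3 L) (e : (↥L ⧸ pCore 2 ↥L) ≃* Matrix.ProjectiveSpecialLinearGroup (Fin 2) F) : False := by
  obtain ⟨e'⟩ := h
  exact false_of_card (Or.inl rfl) H5.ResidEnd.card_l3 e' e

omit [Finite G] in
theorem false_alt6 (h : IsAlt 6 L) (e : (↥L ⧸ pCore 2 ↥L) ≃* Matrix.ProjectiveSpecialLinearGroup (Fin 2) F) :
    False := by
  obtain ⟨e'⟩ := h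
  exact false_of_card (Or.inr (Or.inl rfl)) H5.ResidEnd.card_alt_six e' e

theorem card_psl {F : Type} [Field F] [Fintype F] (hF : Fintype.card F = 2) :
    Nat.card (Matrix.ProjectiveSpecialLinearGroup (Fin 3) F) = 168 ∧
      Nat.card (Matrix.ProjectiveSpecialLinearGroup (Fin 4) F) = 20160 := by
  refine ⟨?_, ?_⟩
  · have h := S0243.result hF 3 (by norm_num)
    rw [Fin.prod_univ_three] at h
    norm_num at h
    exact h
  · have h := S0243.result hF 4 (by norm_num)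
    rw [Fin.prod_univ_four] at h
    norm_num at h
    exact h

/-- `L/O₂(L)` is not `L₂(2)`, and `A₅` if it is `L₂(4)` -/
theorem small (hL : L ∈ calL (T : Subgroup G)) (h4 : Fintype.card F ≤ 4)
    (e : (↥L ⧸ pCore 2 ↥L) ≃* Matrix.ProjectiveSpecialLinearGroup (Fin 2) F) : IsAlt 5 L := by
  obtain ⟨m, -, hm⟩ := FiniteField.card F 2
  have hm0 : (m : ℕ) ≠ 0 := m.ne_zero
  rcases Nat.lt_or_ge (m : ℕ) 2 with h2 | h2
  · exfalso
    have h1 : (m : ℕ) = 1 := by omega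
    rw [h1, pow_one] at hm
    have hc : Nat.card (↥L ⧸ pCore 2 ↥L) = 6 := by
      rw [Nat.card_congr e.toEquiv, SmallSimple.PSLTwoPart.card_psl_two_even (by rw [hm]; decide), hm]
      norm_num
    apply H4.Lf.not_solvable hL
    have hs : Group.IsSolvable (↥L ⧸ pCore 2 ↥L) := H5.Small.solvable_of_lt _ hc (by norm_num)
    refine H5.Small.solvable_of_hom (QuotientGroup.mk' (pCore 2 ↥L)) ?_ inferInstance
    rw [QuotientGroup.ker_mk']
    exact Cfsg.Agent.Lib.Cores.pCore_isPGroup (G := ↥L) 2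
  · have h3 : Fintype.card F = 4 := by
      apply le_antisymm h4
      rw [hm]
      calc 4 = 2 ^ 2 := by norm_num
        _ ≤ 2 ^ (m : ℕ) := Nat.pow_le_pow_right (by norm_num) h2
    obtain ⟨e'⟩ := S0252.result h3
    exact ⟨e.trans e'⟩

/-- **S1828** -/
theorem psl_main (hFT : H5.Top.FT.{u}) (hE : IsOfEvenCharacteristic G) (hl : IsOnQTKEList G) (H : Hyp G)
    (hL : L ∈ calLfMax (T : Subgroup G))
    (e : (↥L ⧸ pCore 2 ↥L) ≃* Matrix.ProjectiveSpecialLinearGroup (Fin 2) F) :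
    IsAlt 5 L ∨ IsLieRankTwoCharTwo G ∨ Spor.IsoM22 G ∨ Spor.IsoM23 G := by
  have hLf : L ∈ calLf (T : Subgroup G) := ⟨hL.1.1, hL.2⟩
  rcases table hFT hE hl H.resid with h | h | h
  · rcases h T L hLf with h | h | h
    · exact (false_alt6 h e).elim
    · exact Or.inl h
    · exact (false_l3 h e).elim
  · right; left
    rcases h with ⟨F, _, _, hF, h4, h⟩ | ⟨F, _, _, n, hn, hF, h⟩ | ⟨F, _, _, hF, h⟩ | ⟨K, _, _, n, hn, hK, h⟩ | h
    · exact Or.inl ⟨F, _, _, hF, h.imp id (Or.imp (And.intro h4) (And.intro h4))⟩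
    · exact Or.inr (Or.inr (Or.inr (Or.inl ⟨F, _, _, n, by omega, hF, h⟩)))
    · exact Or.inr (Or.inr (Or.inr (Or.inr (Or.inl ⟨F, _, _, hF, h⟩))))
    · exact Or.inr (Or.inr (Or.inr (Or.inr (Or.inr (Or.inl ⟨K, _, _, n, by omega, hK, h⟩)))))
    · exact Or.inr (Or.inr (Or.inr (Or.inr (Or.inr (Or.inr (Or.inl h))))))
  · rcases h with ⟨F', _, _, hF, ⟨e'⟩⟩ | ⟨F', _, _, hF, ⟨e'⟩⟩ | ⟨⟨e'⟩⟩ | h | h | h | h | h
    · have hc : CharP F' 2 := charP_of_sq (n := 1) (k := 1) (by rw [hF]; norm_num)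
      obtain ⟨-, _, ⟨h⟩⟩ := RowPSLFive.row_psl_four hF e' T L hL.1.1
      exact (false_of_card (Or.inl rfl) (card_psl hF).1 h e).elim
    · have hc : CharP F' 2 := charP_of_sq (n := 1) (k := 1) (by rw [hF]; norm_num)
      obtain ⟨-, i, ⟨h⟩⟩ := RowPSLFive.row_psl_five hF e' T L hL.1.1
      exfalso
      fin_cases i
      · exact false_of_card (Or.inl rfl) (card_psl hF).1 h e
      · exact false_of_card (Or.inr (Or.inr (Or.inr rfl))) (card_psl hF).2 h e
    · have hc : Nat.card G = 181440 := by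
        rw [Nat.card_congr e'.toEquiv, nat_card_alternatingGroup, Nat.card_fin, show Nat.factorial 9 = 362880 by rfl]
      have h128 : ¬ 128 ∣ Nat.card G := by rw [hc]; norm_num
      obtain ⟨-, h⟩ := H5.Row64.row64 hFT hE h128 T hL.1.1
      rcases h with ⟨-, -, h⟩ | ⟨-, -, h⟩
      · exact (false_l3 h e).elim
      · exact Or.inl h
    · exact Or.inr (Or.inr (Or.inl h))
    · exact Or.inr (Or.inr (Or.inr h))
    · exfalso
      obtain ⟨f⟩ := h
      have h1 : L.map f.toMonoidHom ∈ calL ((mapSylow f T : Sylow 2 M24) : Subgroup M24) := by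
        rw [coe_mapSylow]
        exact map_mem_calL f hL.1.1
      obtain ⟨-, h2⟩ := H3.M24Row.row24 _ h1
      have e1 : (L ⧸ pCore 2 L) ≃* (↥(L.map f.toMonoidHom) ⧸ pCore 2 ↥(L.map f.toMonoidHom)) := quotEquiv (sm f L)
      rcases h2 with ⟨⟨g⟩⟩ | ⟨⟨g⟩⟩ | ⟨-, -, h2⟩
      · refine false_of_card (Or.inr (Or.inr (Or.inr rfl))) ?_ (e1.trans g) e
        rw [nat_card_alternatingGroup, Nat.card_fin, show Nat.factorial 8 = 40320 by rfl]
      · exact false_l3 ⟨e1.trans g⟩ e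
      · rcases h2 with h2 | h2
        · exact false_of_card (Or.inr (Or.inl rfl)) h2 e1 e
        · exact false_of_card (Or.inr (Or.inr (Or.inl rfl))) h2 e1 e
    · exact ((H.he_psl h T L hLf F _ inferInstance inferInstance).false e).elim
    · by_cases h4 : 4 < Fintype.card F
      · exact ((H.j4_psl h T L hL F _ inferInstance inferInstance h4).false e).elim
      · exact Or.inl (small hL.1.1 (not_lt.1 h4) e)

end

end Cfsg.Agent.H1.Asm
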