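import Cfsg.Agent.H1.RealTool
import Cfsg.Agent.H264.CoverOver
import Cfsg.Agent.H915.LD

/-!
# Cores whose group has a cover in which every element is real

`cover_hom`: a core `P` with `Soc P ≃* T` is an epimorphic image of a given cover `Γ` of `T`, over `T`.
`sd_of_real`: if every element of `Γ` is conjugate to its inverse, then `SD P`.
-/

set_option autoImplicit false

namespace Cfsg.Agent.H1.RealCover

open Function Subgroup Cfsg Cfsg.Geo Cfsg.Agent.H915.LD Cfsg.Agent.H1.RealTool

universe u v w x y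

variable {ι : Type} [Fintype ι] [DecidableEq ι] {F : Type u} [Field F] {P : Subgroup (Matrix.GeneralLinearGroup ι F)}
  {T : Type v} [Group T]

/-- the projection of a core onto its simple group -/
def pj (P : Subgroup (Matrix.GeneralLinearGroup ι F)) (e : Soc P ≃* T) : P →* T := e.toMonoidHom.comp (toSoc P)

theorem pj_surjective (e : Soc P ≃* T) : Surjective (pj P e) := e.surjective.comp (toSoc_surjective P)

theorem ker_pj (e : Soc P ≃* T) : (pj P e).ker = (scalars ι F).subgroupOf P := ker_comp e

theorem stem_pj (hC : Core P) (e : Soc P ≃* T) : IsStemExtension (pj P e) :=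
  ⟨pj_surjective e, by rw [ker_pj]; exact scalars_le_center, by rw [hC.commutator_top]; exact le_top⟩

theorem perfect_T (hC : Core P) (e : Soc P ≃* T) : commutator T = ⊤ := by
  have h1 : (commutator P).map (pj P e) = commutator T := by
    rw [_root_.commutator_def, _root_.commutator_def, Subgroup.map_commutator,
      Subgroup.map_top_of_surjective _ (pj_surjective e)]
  rw [← h1, hC.commutator_top, Subgroup.map_top_of_surjective _ (pj_surjective e)]

/-- the cover maps onto the core -/
theorem cover_hom [Finite T] (hC : Core P) (e : Soc P ≃* T) {A : Type w} [CommGroup A] [Finite A]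
    (hA : HasSchurMultiplier T A) {Γ : Type x} [Group Γ] [Finite Γ] (σ : Γ →* T) (hσ : IsStemExtension σ)
    (hcard : Nat.card σ.ker = Nat.card A) : ∃ φ : Γ →* P, Surjective φ ∧ ∀ z, pj P e (φ z) = σ z :=
  H264.CoverOver.exists_cover (perfect_T hC e) hA σ hσ hcard (pj P e) (stem_pj hC e)

theorem tr_inv_of_rl {g : P} (h : Rl g) : tr ((g : Matrix.GeneralLinearGroup ι F)⁻¹) = tr (g : Matrix.GeneralLinearGroup ι F) := by
  obtain ⟨x, hx⟩ := h
  have h1 : (x : Matrix.GeneralLinearGroup ι F) * g * (x : Matrix.GeneralLinearGroup ι F)⁻¹ =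
      (g : Matrix.GeneralLinearGroup ι F)⁻¹ := congrArg Subtype.val hx
  rw [← h1, tr_conj]

theorem sd_of_hom {Γ : Type x} [Group Γ] (hr : ∀ z : Γ, Rl z) (φ : Γ →* P) (hφ : Surjective φ) : SD P := by
  intro g hg
  obtain ⟨z, hz⟩ := hφ ⟨g, hg⟩
  have h1 := tr_inv_of_rl ((hr z).map φ)
  rwa [hz] at h1

/-- **A group all of whose covers have real elements gives self-dual cores.** -/
theorem sd_of_real [Finite T] (hC : Core P) (e : Soc P ≃* T) {A : Type w} [CommGroup A] [Finite A]
    (hA : HasSchurMultiplier T A) {Γ : Type x} [Group Γ] [Finite Γ] (σ : Γ →* T) (hσ : IsStemExtension σ)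
    (hcard : Nat.card σ.ker = Nat.card A) (hr : ∀ z : Γ, Rl z) : SD P := by
  obtain ⟨φ, hφ, -⟩ := cover_hom hC e hA σ hσ hcard
  exact sd_of_hom hr φ hφ

/-- trivial multiplier -/
theorem sd_of_real_one [Finite T] (hC : Core P) (e : Soc P ≃* T) (hA : HasCyclicSchurMultiplier T 1)
    (hr : ∀ z : T, Rl z) : SD P := by
  refine sd_of_real hC e hA (MonoidHom.id T) ⟨surjective_id, ?_, ?_⟩ ?_ hr
  · rw [MonoidHom.ker_id]; exact bot_le
  · rw [MonoidHom.ker_id]; exact bot_le
  · rw [MonoidHom.ker_id, Subgroup.card_bot, Nat.card_congr (Multiplicative.toAdd (α := ZMod 1)), Nat.card_zmod]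

end Cfsg.Agent.H1.RealCover
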