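import Mathlib

/-!
# A trace that vanishes in small degree

The relations of `2^(1+4).SL_2(5)` in the double cover of the Hall-Janko group: in degree at most 13, in odd
characteristic, the trace of a certain element of order 8 is zero.
-/

set_option autoImplicit false

namespace Cfsg.Agent.H1.EightA

open Module

universe u v

variable {F : Type u} [Field F] {V : Type v} [AddCommGroup V] [Module F V]

/-- sign -/
def sg (F : Type u) [Field F] (a : Bool) : F := if a then -1 else 1

/-- eigenspace of an involution -/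
def Ei (T : End F V) (a : Bool) : Submodule F V := T.eigenspace (sg F a)

theorem mem_Ei {T : End F V} {a : Bool} {x : V} : x ∈ Ei T a ↔ T x = sg F a • x := End.mem_eigenspace_iff

theorem sg_ne (h2 : (2 : F) ≠ 0) : (1 : F) ≠ -1 := by
  intro h
  apply h2
  have h3 : (1 : F) + 1 = 1 + -1 := by rw [← h]
  rw [add_neg_cancel] at h3
  rw [← h3]; norm_num

/-- splitting under an involution -/
theorem split (h2 : (2 : F) ≠ 0) [FiniteDimensional F V] (S : Submodule F V) {T : End F V} (hT : ∀ x, T (T x) = x)
    (hS : ∀ x ∈ S, T x ∈ S) :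
    finrank F S = finrank F (S ⊓ Ei T false : Submodule F V) + finrank F (S ⊓ Ei T true : Submodule F V) := by
  have hsup : (S ⊓ Ei T false) ⊔ (S ⊓ Ei T true) = S := by
    apply le_antisymm (sup_le inf_le_left inf_le_left)
    intro x hx
    have h1 : x = (2 : F)⁻¹ • (x + T x) + (2 : F)⁻¹ • (x - T x) := by
      rw [← smul_add, show x + T x + (x - T x) = (2 : F) • x by rw [two_smul]; abel, smul_smul,
        inv_mul_cancel₀ h2, one_smul]
    rw [h1]
    refine Submodule.add_mem_sup ⟨S.smul_mem _ (S.add_mem hx (hS x hx)), ?_⟩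
      ⟨S.smul_mem _ (S.sub_mem hx (hS x hx)), ?_⟩
    · change _ ∈ Ei T false
      rw [mem_Ei, map_smul, map_add, hT]
      simp only [sg, Bool.false_eq_true, if_false, one_smul]
      rw [add_comm]
    · change _ ∈ Ei T true
      rw [mem_Ei, map_smul, map_sub, hT]
      simp only [sg, if_true]
      rw [smul_comm, neg_one_smul, neg_sub]
  have hinf : (S ⊓ Ei T false) ⊓ (S ⊓ Ei T true) = ⊥ := by
    rw [eq_bot_iff]
    rintro x ⟨⟨-, hx1⟩, ⟨-, hx2⟩⟩
    have h1 : T x = sg F false • x := mem_Ei.1 hx1
    have h3 : T x = sg F true • x := mem_Ei.1 hx2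
    simp only [sg, Bool.false_eq_true, if_false, if_true, one_smul] at h1 h3
    rw [h1, neg_one_smul] at h3
    have h4 : (2 : F) • x = 0 := by
      rw [two_smul]; nth_rw 1 [h3]; exact neg_add_cancel x
    rcases smul_eq_zero.1 h4 with h | h
    · exact absurd h h2
    · exact (Submodule.mem_bot F).2 h
  have h := Submodule.finrank_sup_add_finrank_inf_eq (S ⊓ Ei T false) (S ⊓ Ei T true)
  rw [hsup, hinf, finrank_bot, add_zero] at h
  exact h

/-- an injective map between submodules -/
theorem finrank_le_of_map [FiniteDimensional F V] {S S' : Submodule F V} (f : End F V) (hf : Function.Injective f)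
    (h : ∀ x ∈ S, f x ∈ S') : finrank F S ≤ finrank F S' := by
  refine LinearMap.finrank_le_finrank_of_injective (f := f.restrict h) ?_
  intro x y hxy
  exact Subtype.ext (hf (congrArg Subtype.val hxy))

/-- two anticommuting automorphisms -/
theorem even_of_anti (h2 : (2 : F) ≠ 0) [FiniteDimensional F V] (S : Submodule F V) {A B : End F V}
    (hA : Function.Injective A) (hB : Function.Injective B) (hSA : ∀ x ∈ S, A x ∈ S) (hSB : ∀ x ∈ S, B x ∈ S)
    (h : ∀ x ∈ S, A (B x) = -(B (A x))) : Even (finrank F S) := by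
  have iA : Function.Injective (A.restrict hSA) := fun x y hxy => Subtype.ext (hA (congrArg Subtype.val hxy))
  have iB : Function.Injective (B.restrict hSB) := fun x y hxy => Subtype.ext (hB (congrArg Subtype.val hxy))
  have dA : LinearMap.det (A.restrict hSA) ≠ 0 := (LinearMap.isUnit_det _
    ((LinearMap.isUnit_iff_ker_eq_bot _).2 (LinearMap.ker_eq_bot.2 iA))).ne_zero
  have dB : LinearMap.det (B.restrict hSB) ≠ 0 := (LinearMap.isUnit_det _
    ((LinearMap.isUnit_iff_ker_eq_bot _).2 (LinearMap.ker_eq_bot.2 iB))).ne_zero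
  have e : A.restrict hSA * B.restrict hSB = (-1 : F) • (B.restrict hSB * A.restrict hSA) := by
    apply LinearMap.ext
    intro x
    apply Subtype.ext
    change A (B x) = (-1 : F) • (B (A (x : V)))
    rw [h x x.2, neg_smul, one_smul]
  have h3 := congrArg LinearMap.det e
  rw [map_mul, LinearMap.det_smul, map_mul, mul_comm (LinearMap.det (B.restrict hSB))] at h3
  have h4 : (-1 : F) ^ finrank F S = 1 := by
    have h5 : (1 - (-1 : F) ^ finrank F S) * (LinearMap.det (A.restrict hSA) * LinearMap.det (B.restrict hSB)) = 0 := by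
      rw [sub_mul, one_mul, ← h3, sub_self]
    rcases mul_eq_zero.1 h5 with h6 | h6
    · exact (sub_eq_zero.1 h6).symm
    · exact absurd h6 (mul_ne_zero dA dB)
  by_contra hodd
  rw [Nat.not_even_iff_odd] at hodd
  rw [hodd.neg_one_pow] at h4
  exact sg_ne h2 h4.symm

/-- The relations. `T i` : reflections anticommuting modulo `-z`; `f` permutes them cyclically; `v`, `b` anticommute. -/
structure Rel (z f v b : End F V) (T : ZMod 5 → End F V) : Prop where
  zz : ∀ x, z (z x) = x
  TT : ∀ i x, T i (T i x) = x
  zT : ∀ i x, T i (z x) = z (T i x)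
  anti : ∀ i j, i ≠ j → ∀ x, T i (T j x) = -(z (T j (T i x)))
  fz : ∀ x, f (z x) = z (f x)
  fT : ∀ i x, f (T i x) = T (i + 1) (f x)
  f5 : Function.Injective f
  vi : Function.Injective v
  bi : Function.Injective b
  vz : ∀ x, v (z x) = z (v x)
  bz : ∀ x, b (z x) = z (b x)
  vb : ∀ x, v (b x) = -(b (v x))
  vT : ∀ i, ∃ j, ∀ x, v (T i x) = T j (v x)
  bT : ∀ i, ∃ j, ∀ x, b (T i x) = T j (b x)
  v0 : ∀ x, v (T 0 x) = T 0 (v x)
  prod : ∀ x, T 0 (T 1 (T 2 (T 3 (T 4 x)))) = -(z x)
  nz : ∃ x, z x ≠ -x

set_option linter.unusedSectionVars false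

section main

variable [FiniteDimensional F V] {z f v b : End F V} {T : ZMod 5 → End F V}

theorem inj_of_invol {S : End F V} (h : ∀ x, S (S x) = x) : Function.Injective S := fun x y hxy => by
  rw [← h x, ← h y, hxy]

/-- the part where `z = 1` has dimension at least 4 -/
theorem four_le (h2 : (2 : F) ≠ 0) (R : Rel z f v b T) : 4 ≤ finrank F (Ei z false) := by
  have memV : ∀ {x : V}, x ∈ Ei z false ↔ z x = x := by
    intro x; rw [mem_Ei]; simp only [sg, Bool.false_eq_true, if_false, one_smul]
  have hTV : ∀ i, ∀ x ∈ Ei z false, T i x ∈ Ei z false := by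
    intro i x hx
    rw [memV] at hx ⊢
    rw [← R.zT, hx]
  have hanti : ∀ i j, i ≠ j → ∀ x ∈ Ei z false, T i (T j x) = -(T j (T i x)) := by
    intro i j hij x hx
    rw [R.anti i j hij, memV.1 (hTV j _ (hTV i x hx))]
  have hTi : ∀ i, Function.Injective (T i) := fun i => inj_of_invol (R.TT i)
  -- non-zero
  have hpos : 0 < finrank F (Ei z false) := by
    rw [Module.finrank_pos_iff, Submodule.nontrivial_iff_ne_bot]
    intro hbot
    obtain ⟨x, hx⟩ := R.nz
    apply hx
    have h1 : x + z x ∈ Ei z false := by rw [memV, map_add, R.zz, add_comm]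
    rw [hbot, Submodule.mem_bot] at h1
    rw [add_comm] at h1
    exact eq_neg_of_add_eq_zero_left h1
  have hs := split h2 (Ei z false) (R.TT 0) (hTV 0)
  set E := Ei z false ⊓ Ei (T 0) false with hE
  set E' := Ei z false ⊓ Ei (T 0) true with hE'
  have mE : ∀ {x : V}, x ∈ E ↔ z x = x ∧ T 0 x = x := by
    intro x
    rw [hE, Submodule.mem_inf, memV, mem_Ei]
    simp only [sg, Bool.false_eq_true, if_false, one_smul]
  have mE' : ∀ {x : V}, x ∈ E' ↔ z x = x ∧ T 0 x = -x := by
    intro x
    rw [hE', Submodule.mem_inf, memV, mem_Ei]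
    simp only [sg, if_true, neg_one_smul]
  have h01 : (0 : ZMod 5) ≠ 1 := by decide
  have hle1 : finrank F E ≤ finrank F E' := finrank_le_of_map (T 1) (hTi 1) (by
    intro x hx
    obtain ⟨hz, h0⟩ := mE.1 hx
    rw [mE']
    refine ⟨memV.1 (hTV 1 x (memV.2 hz)), ?_⟩
    rw [hanti 0 1 h01 x (memV.2 hz), h0])
  have hle2 : finrank F E' ≤ finrank F E := finrank_le_of_map (T 1) (hTi 1) (by
    intro x hx
    obtain ⟨hz, h0⟩ := mE'.1 hx
    rw [mE]
    refine ⟨memV.1 (hTV 1 x (memV.2 hz)), ?_⟩
    rw [hanti 0 1 h01 x (memV.2 hz), h0, map_neg, neg_neg])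
  have hev : Even (finrank F E) := by
    refine even_of_anti h2 E (A := T 1 * T 2) (B := T 2 * T 3) ((hTi 1).comp (hTi 2)) ((hTi 2).comp (hTi 3)) ?_ ?_ ?_
    · intro x hx
      obtain ⟨hz, h0⟩ := mE.1 hx
      rw [mE]
      have hxV := memV.2 hz
      have h1V := hTV 2 x hxV
      refine ⟨memV.1 (hTV 1 _ h1V), ?_⟩
      change T 0 (T 1 (T 2 x)) = T 1 (T 2 x)
      rw [hanti 0 1 h01 _ h1V, hanti 0 2 (by decide) _ hxV, h0, map_neg, neg_neg]
    · intro x hx
      obtain ⟨hz, h0⟩ := mE.1 hx
      rw [mE]
      have hxV := memV.2 hz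
      have h1V := hTV 3 x hxV
      refine ⟨memV.1 (hTV 2 _ h1V), ?_⟩
      change T 0 (T 2 (T 3 x)) = T 2 (T 3 x)
      rw [hanti 0 2 (by decide) _ h1V, hanti 0 3 (by decide) _ hxV, h0, map_neg, neg_neg]
    · intro x hx
      obtain ⟨hz, h0⟩ := mE.1 hx
      have hxV := memV.2 hz
      change T 1 (T 2 (T 2 (T 3 x))) = -(T 2 (T 3 (T 1 (T 2 x))))
      rw [R.TT 2, hanti 3 1 (by decide) _ (hTV 2 x hxV), map_neg, hanti 2 1 (by decide) _ (hTV 3 _ (hTV 2 x hxV)),
        neg_neg, hanti 2 3 (by decide) _ (hTV 2 x hxV), map_neg, R.TT 2, neg_neg]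
  obtain ⟨k, hk⟩ := hev
  omega

theorem even_U (h2 : (2 : F) ≠ 0) (R : Rel z f v b T) : Even (finrank F (Ei z true)) := by
  refine even_of_anti h2 _ R.vi R.bi ?_ ?_ (fun x _ => R.vb x)
  · intro x hx
    rw [mem_Ei] at hx ⊢
    rw [← R.vz, hx, map_smul]
  · intro x hx
    rw [mem_Ei] at hx ⊢
    rw [← R.bz, hx, map_smul]

/-- the fixed space of the reflections in the part where `z = -1` -/
def U1 (z : End F V) (T : ZMod 5 → End F V) : Submodule F V := Ei z true ⊓ ⨅ i, Ei (T i) false

theorem mem_U1 {x : V} : x ∈ U1 z T ↔ z x = -x ∧ ∀ i, T i x = x := by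
  unfold U1
  rw [Submodule.mem_inf, Submodule.mem_iInf, mem_Ei]
  simp only [sg, if_true, neg_one_smul, mem_Ei, Bool.false_eq_true, if_false, one_smul]

theorem even_U1 (h2 : (2 : F) ≠ 0) (R : Rel z f v b T) : Even (finrank F (U1 z T)) := by
  have key : ∀ g : End F V, Function.Injective g → (∀ x, g (z x) = z (g x)) → (∀ i, ∃ j, ∀ x, g (T i x) = T j (g x)) →
      ∀ x ∈ U1 z T, g x ∈ U1 z T := by
    intro g hg hgz hgT x hx
    rw [mem_U1] at hx ⊢
    refine ⟨by rw [← hgz, hx.1, map_neg], ?_⟩
    choose π hπ using hgT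
    have hinj : Function.Injective (fun i => T i (g x) = g x) ∨ True := Or.inr trivial
    -- `π` need not be known to be a permutation: use that `g` is injective on operators
    by_contra hcon
    push Not at hcon
    obtain ⟨j, hj⟩ := hcon
    by_cases hπs : ∃ i, π i = j
    · obtain ⟨i, rfl⟩ := hπs
      exact hj (by rw [← hπ i, hx.2 i])
    · -- then `π` is not injective
      have hni : ¬ Function.Injective π := fun h => hπs ((Finite.injective_iff_surjective.1 h) j)
      rw [Function.Injective] at hni
      push Not at hni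
      obtain ⟨i, k, hik, hne⟩ := hni
      -- `T i = T k`
      have h3 : ∀ y, T i y = T k y := fun y => hg (by rw [hπ i, hπ k, hik])
      -- then `z = -1`
      obtain ⟨y, hy⟩ := R.nz
      exfalso
      apply hy
      have h4 := R.anti i k hne y
      rw [← h3 y, R.TT, ← h3 (T i y), R.TT] at h4
      exact (eq_neg_iff_add_eq_zero.2 (by rw [eq_neg_iff_add_eq_zero] at h4; rw [add_comm]; exact h4))
  exact even_of_anti h2 _ R.vi R.bi (key v R.vi R.vz R.vT) (key b R.bi R.bz R.bT) (fun x _ => R.vb x)

/-- sign of the product -/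
def xr (a b c d : Bool) : Bool := xor (xor a b) (xor c d)

/-- common eigenspaces -/
def S4 (z : End F V) (T : ZMod 5 → End F V) (a b c d : Bool) : Submodule F V :=
  Ei z true ⊓ Ei (T 0) a ⊓ Ei (T 1) b ⊓ Ei (T 2) c ⊓ Ei (T 3) d

theorem sg_mul (a b : Bool) : sg F a * sg F b = sg F (xor a b) := by
  cases a <;> cases b <;> simp [sg]

theorem mem_S4 {a b c d : Bool} {x : V} : x ∈ S4 z T a b c d ↔
    z x = -x ∧ T 0 x = sg F a • x ∧ T 1 x = sg F b • x ∧ T 2 x = sg F c • x ∧ T 3 x = sg F d • x := by
  unfold S4
  simp only [Submodule.mem_inf, mem_Ei]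
  have h : (sg F true) • x = -x := by simp [sg]
  rw [h]
  tauto

theorem T4_eq (R : Rel z f v b T) {a b' c d : Bool} {x : V} (hx : x ∈ S4 z T a b' c d) :
    T 4 x = sg F (xr a b' c d) • x := by
  obtain ⟨hz, h0, h1, h2, h3⟩ := mem_S4.1 hx
  -- `T 4 x` lies in the same common eigenspace
  have hU : ∀ i, ∀ y, z y = -y → z (T i y) = -(T i y) := by
    intro i y hy; rw [← R.zT, hy, map_neg]
  have hcomm : ∀ i j, i ≠ j → ∀ y, z y = -y → T i (T j y) = T j (T i y) := by
    intro i j hij y hy
    rw [R.anti i j hij, hU j _ (hU i y hy), neg_neg]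
  have p := R.prod x
  rw [hz, neg_neg] at p
  have e3 : T 3 (T 4 x) = sg F d • T 4 x := by rw [hcomm 3 4 (by decide) x hz, h3, map_smul]
  have e2 : T 2 (T 4 x) = sg F c • T 4 x := by rw [hcomm 2 4 (by decide) x hz, h2, map_smul]
  have e1 : T 1 (T 4 x) = sg F b' • T 4 x := by rw [hcomm 1 4 (by decide) x hz, h1, map_smul]
  have e0 : T 0 (T 4 x) = sg F a • T 4 x := by rw [hcomm 0 4 (by decide) x hz, h0, map_smul]
  rw [e3, map_smul, map_smul, map_smul, e2, map_smul, map_smul, e1, map_smul, e0, smul_smul, smul_smul, smul_smul,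
    sg_mul, sg_mul, sg_mul] at p
  have h5 : sg F (xr a b' c d) • (sg F (xor (xor (xor d c) b') a) • T 4 x) = sg F (xr a b' c d) • x := by rw [p]
  rw [smul_smul, sg_mul] at h5
  have h6 : xor (xr a b' c d) (xor (xor (xor d c) b') a) = false := by
    cases a <;> cases b' <;> cases c <;> cases d <;> rfl
  rw [h6] at h5
  simpa [sg] using h5

theorem shift (R : Rel z f v b T) (a b' c d : Bool) :
    finrank F (S4 z T a b' c d) ≤ finrank F (S4 z T (xr a b' c d) a b' c) := by
  refine finrank_le_of_map f R.f5 ?_
  intro x hx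
  have h4 := T4_eq R hx
  obtain ⟨hz, h0, h1, h2, h3⟩ := mem_S4.1 hx
  rw [mem_S4]
  refine ⟨by rw [← R.fz, hz, map_neg], ?_, ?_, ?_, ?_⟩
  · have := R.fT 4 x
    rw [h4, map_smul] at this
    exact this.symm
  · have := R.fT 0 x
    rw [h0, map_smul] at this
    exact this.symm
  · have := R.fT 1 x
    rw [h1, map_smul] at this
    exact this.symm
  · have := R.fT 2 x
    rw [h2, map_smul] at this
    exact this.symm

theorem split_U (h2 : (2 : F) ≠ 0) (R : Rel z f v b T) :
    finrank F (Ei z true) = finrank F (S4 z T false false false false) + finrank F (S4 z T false false false true) +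
      (finrank F (S4 z T false false true false) + finrank F (S4 z T false false true true)) +
      (finrank F (S4 z T false true false false) + finrank F (S4 z T false true false true) +
      (finrank F (S4 z T false true true false) + finrank F (S4 z T false true true true))) +
      (finrank F (S4 z T true false false false) + finrank F (S4 z T true false false true) +
      (finrank F (S4 z T true false true false) + finrank F (S4 z T true false true true)) +
      (finrank F (S4 z T true true false false) + finrank F (S4 z T true true false true) +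
      (finrank F (S4 z T true true true false) + finrank F (S4 z T true true true true)))) := by
  have hU : ∀ i, ∀ y ∈ Ei z true, T i y ∈ Ei z true := by
    intro i y hy
    rw [mem_Ei] at hy ⊢
    rw [← R.zT, hy, map_smul]
  have hcomm : ∀ i j, i ≠ j → ∀ y ∈ Ei z true, T i (T j y) = T j (T i y) := by
    intro i j hij y hy
    have h3 := hU j _ (hU i y hy)
    rw [mem_Ei] at h3
    rw [R.anti i j hij, h3]
    simp [sg]
  have hE : ∀ i j, i ≠ j → ∀ a, ∀ y ∈ Ei z true, y ∈ Ei (T j) a → T i y ∈ Ei (T j) a := by
    intro i j hij a y hy hya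
    rw [mem_Ei] at hya ⊢
    rw [← hcomm i j hij y hy, hya, map_smul]
  have s0 := split h2 (Ei z true) (R.TT 0) (hU 0)
  have s1 : ∀ a, finrank F (Ei z true ⊓ Ei (T 0) a : Submodule F V) =
      finrank F (Ei z true ⊓ Ei (T 0) a ⊓ Ei (T 1) false : Submodule F V) +
      finrank F (Ei z true ⊓ Ei (T 0) a ⊓ Ei (T 1) true : Submodule F V) := fun a =>
    split h2 _ (R.TT 1) (by
      rintro x ⟨hx, hx0⟩
      exact ⟨hU 1 x hx, hE 1 0 (by decide) a x hx hx0⟩)
  have s2 : ∀ a c, finrank F (Ei z true ⊓ Ei (T 0) a ⊓ Ei (T 1) c : Submodule F V) =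
      finrank F (Ei z true ⊓ Ei (T 0) a ⊓ Ei (T 1) c ⊓ Ei (T 2) false : Submodule F V) +
      finrank F (Ei z true ⊓ Ei (T 0) a ⊓ Ei (T 1) c ⊓ Ei (T 2) true : Submodule F V) := fun a c =>
    split h2 _ (R.TT 2) (by
      rintro x ⟨⟨hx, hx0⟩, hx1⟩
      exact ⟨⟨hU 2 x hx, hE 2 0 (by decide) a x hx hx0⟩, hE 2 1 (by decide) c x hx hx1⟩)
  have s3 : ∀ a c d, finrank F (Ei z true ⊓ Ei (T 0) a ⊓ Ei (T 1) c ⊓ Ei (T 2) d : Submodule F V) =
      finrank F (S4 z T a c d false) + finrank F (S4 z T a c d true) := fun a c d =>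
    split h2 _ (R.TT 3) (by
      rintro x ⟨⟨⟨hx, hx0⟩, hx1⟩, hx2⟩
      exact ⟨⟨⟨hU 3 x hx, hE 3 0 (by decide) a x hx hx0⟩, hE 3 1 (by decide) c x hx hx1⟩,
        hE 3 2 (by decide) d x hx hx2⟩)
  rw [s0, s1, s1, s2, s2, s2, s2, s3, s3, s3, s3, s3, s3, s3, s3]

theorem S4_eq_U1 (R : Rel z f v b T) : S4 z T false false false false = U1 z T := by
  apply le_antisymm
  · intro x hx
    have h4 := T4_eq R hx
    obtain ⟨hz, h0, h1, h2, h3⟩ := mem_S4.1 hx
    simp only [sg, Bool.false_eq_true, if_false, one_smul, xr, Bool.xor_self] at h0 h1 h2 h3 h4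
    rw [mem_U1]
    refine ⟨hz, fun i => ?_⟩
    have : ∀ i : ZMod 5, i = 0 ∨ i = 1 ∨ i = 2 ∨ i = 3 ∨ i = 4 := by decide
    rcases this i with rfl | rfl | rfl | rfl | rfl <;> assumption
  · intro x hx
    obtain ⟨hz, h⟩ := mem_U1.1 hx
    rw [mem_S4]
    simp only [sg, Bool.false_eq_true, if_false, one_smul]
    exact ⟨hz, h 0, h 1, h 2, h 3⟩

/-- in degree at most 13 the reflections act trivially where `z = -1` -/
theorem fixed (h2 : (2 : F) ≠ 0) (R : Rel z f v b T) (hn : finrank F V ≤ 13) {x : V} (hx : z x = -x) (i : ZMod 5) :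
    T i x = x := by
  have h4 := four_le h2 R
  obtain ⟨k, hk⟩ := even_U h2 R
  obtain ⟨m, hm⟩ := even_U1 h2 R
  have hV := split h2 (⊤ : Submodule F V) R.zz (fun _ _ => trivial)
  rw [top_inf_eq, top_inf_eq, finrank_top] at hV
  have hsp := split_U h2 R
  rw [S4_eq_U1 R] at hsp
  have hsh : ∀ a b' c d, finrank F (S4 z T a b' c d) ≤ finrank F (S4 z T (xr a b' c d) a b' c) := shift R
  have q1 := hsh true true false false
  have q2 := hsh false true true false
  have q3 := hsh false false true true
  have q4 := hsh false false false true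
  have q5 := hsh true false false false
  have r1 := hsh true false true false
  have r2 := hsh false true false true
  have r3 := hsh false false true false
  have r4 := hsh true false false true
  have r5 := hsh false true false false
  have t1 := hsh true true true true
  have t2 := hsh false true true true
  have t3 := hsh true false true true
  have t4 := hsh true true false true
  have t5 := hsh true true true false
  rw [show xr true true false false = false from rfl] at q1
  rw [show xr false true true false = false from rfl] at q2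
  rw [show xr false false true true = false from rfl] at q3
  rw [show xr false false false true = true from rfl] at q4
  rw [show xr true false false false = true from rfl] at q5
  rw [show xr true false true false = false from rfl] at r1
  rw [show xr false true false true = false from rfl] at r2
  rw [show xr false false true false = true from rfl] at r3
  rw [show xr true false false true = false from rfl] at r4
  rw [show xr false true false false = true from rfl] at r5
  rw [show xr true true true true = false from rfl] at t1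
  rw [show xr false true true true = true from rfl] at t2
  rw [show xr true false true true = true from rfl] at t3
  rw [show xr true true false true = true from rfl] at t4
  rw [show xr true true true false = true from rfl] at t5
  generalize finrank F (S4 z T false false false true) = n1 at *
  generalize finrank F (S4 z T false false true false) = n2 at *
  generalize finrank F (S4 z T false false true true) = n3 at *
  generalize finrank F (S4 z T false true false false) = n4 at *
  generalize finrank F (S4 z T false true false true) = n5 at *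
  generalize finrank F (S4 z T false true true false) = n6 at *
  generalize finrank F (S4 z T false true true true) = n7 at *
  generalize finrank F (S4 z T true false false false) = n8 at *
  generalize finrank F (S4 z T true false false true) = n9 at *
  generalize finrank F (S4 z T true false true false) = n10 at *
  generalize finrank F (S4 z T true false true true) = n11 at *
  generalize finrank F (S4 z T true true false false) = n12 at *
  generalize finrank F (S4 z T true true false true) = n13 at *
  generalize finrank F (S4 z T true true true false) = n14 at *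
  generalize finrank F (S4 z T true true true true) = n15 at *
  have g1 : n6 = n12 := le_antisymm (q2.trans (q3.trans (q4.trans q5))) q1
  have g2 : n3 = n12 := le_antisymm (q3.trans (q4.trans q5)) (q1.trans q2)
  have g3 : n1 = n12 := le_antisymm (q4.trans q5) (q1.trans (q2.trans q3))
  have g4 : n8 = n12 := le_antisymm q5 (q1.trans (q2.trans (q3.trans q4)))
  have g5 : n5 = n10 := le_antisymm (r2.trans (r3.trans (r4.trans r5))) r1
  have g6 : n2 = n10 := le_antisymm (r3.trans (r4.trans r5)) (r1.trans r2)
  have g7 : n9 = n10 := le_antisymm (r4.trans r5) (r1.trans (r2.trans r3))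
  have g8 : n4 = n10 := le_antisymm r5 (r1.trans (r2.trans (r3.trans r4)))
  have g9 : n7 = n15 := le_antisymm (t2.trans (t3.trans (t4.trans t5))) t1
  have g10 : n11 = n15 := le_antisymm (t3.trans (t4.trans t5)) (t1.trans t2)
  have g11 : n13 = n15 := le_antisymm (t4.trans t5) (t1.trans (t2.trans t3))
  have g12 : n14 = n15 := le_antisymm t5 (t1.trans (t2.trans (t3.trans t4)))
  rw [g1, g2, g3, g4, g5, g6, g7, g8, g9, g10, g11, g12] at hsp
  clear hsh q1 q2 q3 q4 q5 r1 r2 r3 r4 r5 t1 t2 t3 t4 t5 g1 g2 g3 g4 g5 g6 g7 g8 g9 g10 g11 g12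
  have heq : finrank F (Ei z true) = finrank F (U1 z T) := by
    omega
  have hle : U1 z T ≤ Ei z true := inf_le_left
  have h5 := Submodule.eq_of_le_of_finrank_eq hle heq.symm
  have h6 : x ∈ U1 z T := by
    rw [h5, mem_Ei]; simp only [sg, if_true, neg_one_smul]; exact hx
  exact (mem_U1.1 h6).2 i

/-- **the trace of `v T₁` is zero** -/
theorem trace_eq_zero (h2 : (2 : F) ≠ 0) (R : Rel z f v b T) (hn : finrank F V ≤ 13) :
    LinearMap.trace F V (v * T 1) = 0 := by
  have hself : ∀ t : F, t = -t → t = 0 := by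
    intro t ht
    have h3 : (2 : F) * t = 0 := by rw [two_mul]; nth_rw 1 [ht]; exact neg_add_cancel t
    exact (mul_eq_zero.1 h3).resolve_left h2
  -- the two parts
  have h1 : LinearMap.trace F V (v * T 1 * (1 + z)) = 0 := by
    apply hself
    have e : (v * T 1 * (1 + z)) = -(T 0 * (v * T 1 * (1 + z)) * T 0) := by
      apply LinearMap.ext
      intro x
      change v (T 1 (x + z x)) = -(T 0 (v (T 1 (T 0 x + z (T 0 x)))))
      have hz : z (x + z x) = x + z x := by rw [map_add, R.zz, add_comm]
      have e1 : T 0 x + z (T 0 x) = T 0 (x + z x) := by rw [map_add, ← R.zT]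
      rw [e1, R.anti 1 0 (by decide), ← R.zT, ← R.zT, hz, map_neg, R.v0, map_neg, neg_neg, R.TT]
    have h3 := congrArg (LinearMap.trace F V) e
    rw [map_neg, LinearMap.trace_mul_comm F (T 0 * (v * T 1 * (1 + z))), ← mul_assoc (T 0) (T 0),
      show T 0 * T 0 = 1 from LinearMap.ext (R.TT 0), one_mul] at h3
    exact h3
  have h3 : LinearMap.trace F V (v * T 1 * (1 - z)) = 0 := by
    have e0 : v * T 1 * (1 - z) = v * (1 - z) := by
      apply LinearMap.ext
      intro x
      change v (T 1 (x - z x)) = v (x - z x)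
      rw [fixed h2 R hn (x := x - z x) (by rw [map_sub, R.zz, neg_sub]) 1]
    rw [e0]
    apply hself
    have hbu : IsUnit b := (LinearMap.isUnit_iff_ker_eq_bot b).2 (LinearMap.ker_eq_bot.2 R.bi)
    obtain ⟨B, hB⟩ := hbu
    have e1 : b * (v * (1 - z)) = -(v * (1 - z)) * b := by
      apply LinearMap.ext
      intro x
      change b (v (x - z x)) = -(v (b x - z (b x)))
      rw [← R.bz, ← map_sub, R.vb, neg_neg]
    have e2 : v * (1 - z) = (B⁻¹ : (End F V)ˣ).1 * (-(v * (1 - z))) * B.1 := by
      rw [mul_assoc, hB, ← e1, ← hB, ← mul_assoc, ← Units.val_mul, inv_mul_cancel, Units.val_one, one_mul]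
    have h4 := congrArg (LinearMap.trace F V) e2
    rw [LinearMap.trace_mul_comm F (_ * _) (B : End F V), ← mul_assoc, ← Units.val_mul, mul_inv_cancel, Units.val_one,
      one_mul, map_neg] at h4
    exact h4
  have h4 : (2 : F) • (v * T 1) = v * T 1 * (1 + z) + v * T 1 * (1 - z) := by
    rw [mul_add, mul_sub, mul_one, two_smul]; abel
  have h5 := congrArg (LinearMap.trace F V) h4
  rw [map_smul, map_add, h1, h3, add_zero] at h5
  exact (smul_eq_zero.1 h5).resolve_left h2

end main

end Cfsg.Agent.H1.EightA
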