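import Cfsg.Agent.H1.J2Words
import Cfsg.Agent.H1.EightA
import Cfsg.Agent.H1.RealCover

/-!
# The Hall-Janko group in degree at most 12

`exists_cover` : a core `P` with `Soc P ≃* J2` is an epimorphic image of `W = 2.J2` (over `J2`).
`sd` : it is self-dual if the degree is at most 12.
-/

set_option autoImplicit false
set_option linter.unusedSectionVars false

namespace Cfsg.Agent.H1.TJ2

open Function Subgroup Cfsg Cfsg.Spor Cfsg.Geo Cfsg.Agent.H915.LD Cfsg.Agent.H1.RealTool Cfsg.Agent.H1.RealCover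
open Cfsg.Agent.J2.ZTau Cfsg.Agent.J2.Ico Cfsg.Agent.J2.Lattice Cfsg.Agent.J2.Refl
  Cfsg.Agent.J2.Group Cfsg.Agent.J2.Stab Cfsg.Agent.J2.SixGens
open Cfsg.Agent.H1.J2Lift Cfsg.Agent.H1.J2Words

universe u

theorem finite_W : Finite W := by
  have h1 : Finite ↥Cfsg.Spor.twoJ2 :=
    Nat.finite_of_card_ne_zero (by rw [Cfsg.Agent.S1619.result.1]; norm_num)
  exact Finite.of_equiv _ equivTwoJ2.symm.toEquiv

theorem finite_J2 : Finite J2 := Nat.finite_of_card_ne_zero (by rw [Cfsg.Agent.S2040.card_J2]; norm_num)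

theorem perfect_W : commutator W = ⊤ := Cfsg.Agent.S2040.pce.perf

theorem stem_pr : IsStemExtension pr := by
  refine ⟨pr_surjective, by rw [Cfsg.Agent.S2040.ker_pr], ?_⟩
  rw [perfect_W]; exact le_top

/-- the element of class 8A -/
noncomputable def eA : W := wd (wV ++ [tt 1])

theorem ng_inv : ng⁻¹ = ng := inv_eq_of_mul_eq_one_left ng_sq

theorem k_vv : chkN (wV ++ wV) [] = true := by decide +kernel

theorem wV_inv : (wd wV)⁻¹ = ng * wd wV := by
  have h : wd (wV ++ wV) = ng * wd [] := wd_eqN k_vv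
  rw [wd_append, wd_nil, mul_one] at h
  rw [inv_eq_iff_mul_eq_one, ← mul_assoc, ng_comm, mul_assoc, h, ng_sq]

/-- `8A` is conjugate to minus its inverse -/
theorem eA_conj : wd wV * eA * (wd wV)⁻¹ = ng * eA⁻¹ := by
  have h1 : wd (wV ++ [tt 1]) = wd ([tt 4] ++ wV) := wd_eq (k_vT 1)
  have h4 : wd (wV ++ [tt 4]) = wd ([tt 1] ++ wV) := wd_eq (k_vT 4)
  have ht : (wd [tt 1])⁻¹ = wd [tt 1] := by rw [← wd_reverse]; rfl
  have h2 : eA⁻¹ = wd [tt 1] * (ng * wd wV) := by
    unfold eA
    rw [wd_append, mul_inv_rev, ht, wV_inv]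
  have h3 : wd wV * eA * (wd wV)⁻¹ = wd wV * wd [tt 4] := by
    unfold eA
    rw [h1, wd_append]; group
  rw [h3, ← wd_append, h4, h2, wd_append]
  calc wd [tt 1] * wd wV = (ng * ng) * (wd [tt 1] * wd wV) := by rw [ng_sq, one_mul]
    _ = ng * (ng * wd [tt 1]) * wd wV := by group
    _ = ng * (wd [tt 1] * ng) * wd wV := by rw [ng_comm]
    _ = ng * (wd [tt 1] * (ng * wd wV)) := by group

theorem word_five : wd (C2 (sw 5)) = ng * eA := wd_eqN k_five

/-- every element of `W` is real or conjugate to plus or minus the element `eA` -/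
theorem rl_or (w : W) : Rl w ∨ ∃ c s : W, (s = 1 ∨ s = ng) ∧ c * w * c⁻¹ = s * eA := by
  obtain ⟨j, hj, c, s, hs, h⟩ := lift w
  by_cases h5 : j = 5
  · subst h5
    right
    rw [word_five, ← mul_assoc] at h
    refine ⟨c, s * ng, ?_, h⟩
    rcases hs with rfl | rfl
    · right; rw [one_mul]
    · left; exact ng_sq
  · left
    have h1 := rl_word hj h5
    apply Rl.of_conj c
    rw [h]
    rcases hs with rfl | rfl
    · rwa [one_mul]
    · exact rl_ng_mul h1

section rep

variable {ι : Type} [Fintype ι] [DecidableEq ι] {F : Type u} [Field F] {P : Subgroup (Matrix.GeneralLinearGroup ι F)}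

/-- the cover maps onto the core -/
theorem exists_cover (hC : Core P) (e : Soc P ≃* J2) : ∃ φ : W →* P, Surjective φ ∧ ∀ z, pj P e (φ z) = pr z := by
  have := finite_W
  have := finite_J2
  refine cover_hom hC e (A := Multiplicative (ZMod 2)) Cfsg.Agent.S2040.result pr stem_pr ?_
  rw [Cfsg.Agent.S2040.ker_pr, Cfsg.Agent.S2040.center_card, Nat.card_congr (Multiplicative.toAdd (α := ZMod 2)),
    Nat.card_zmod]

/-- the image of the central involution is plus or minus one -/
theorem ng_image (e : Soc P ≃* J2) {φ : W →* P} (h : ∀ z, pj P e (φ z) = pr z) :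
    (((φ ng : P) : Matrix.GeneralLinearGroup ι F) : Matrix ι ι F) = 1 ∨
      (((φ ng : P) : Matrix.GeneralLinearGroup ι F) : Matrix ι ι F) = -1 := by
  have h1 : φ ng ∈ (pj P e).ker := by
    rw [MonoidHom.mem_ker, h]; exact pr_neg
  rw [ker_pj, mem_subgroupOf, mem_scalars_iff] at h1
  obtain ⟨c, hc⟩ := h1
  have h2 : (((φ ng : P) : Matrix.GeneralLinearGroup ι F) : Matrix ι ι F) *
      (((φ ng : P) : Matrix.GeneralLinearGroup ι F) : Matrix ι ι F) = 1 := by
    rw [← Units.val_mul, ← Subgroup.coe_mul, ← map_mul, ng_sq, map_one]; rfl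
  rcases isEmpty_or_nonempty ι with he | ⟨⟨i⟩⟩
  · left; exact Subsingleton.elim _ _
  · rw [hc] at h2 ⊢
    rw [smul_mul_smul_comm, mul_one] at h2
    have h3 := congrFun (congrFun h2 i) i
    rw [Matrix.smul_apply, Matrix.one_apply_eq, smul_eq_mul, mul_one] at h3
    rcases mul_self_eq_one_iff.1 h3 with h4 | h4
    · left; rw [h4, one_smul]
    · right; rw [h4, neg_smul, one_smul]

/-- the case where the central involution acts trivially -/
theorem tr_of_one {φ : W →* P} (h : φ ng = 1) (w : W) :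
    tr ((φ w : P) : Matrix.GeneralLinearGroup ι F)⁻¹ = tr ((φ w : P) : Matrix.GeneralLinearGroup ι F) := by
  apply tr_inv_of_rl
  rcases rl_or w with hr | ⟨c, s, hs, hc⟩
  · exact hr.map φ
  · have hA : Rl (φ eA) := by
      refine ⟨φ (wd wV), ?_⟩
      rw [← map_mul, ← map_inv, ← map_mul, eA_conj, map_mul, h, one_mul, map_inv]
    apply Rl.of_conj (φ c)
    rw [← map_mul, ← map_inv, ← map_mul, hc, map_mul]
    rcases hs with rfl | rfl
    · rwa [map_one, one_mul]
    · rwa [h, one_mul]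

/-- the operators -/
noncomputable def E (φ : W →* P) (L : List Vec) : Module.End F (ι → F) :=
  Matrix.toLin' (((φ (wd L) : P) : Matrix.GeneralLinearGroup ι F) : Matrix ι ι F)

theorem E_append (φ : W →* P) (L M : List Vec) (x : ι → F) : E φ (L ++ M) x = E φ L (E φ M x) := by
  unfold E
  rw [wd_append, map_mul, Subgroup.coe_mul, Units.val_mul, Matrix.toLin'_mul]; rfl

theorem E_nil (φ : W →* P) (x : ι → F) : E φ [] x = x := by
  unfold E
  rw [wd_nil, map_one, OneMemClass.coe_one, Units.val_one, Matrix.toLin'_one]; rfl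

theorem E_eq (φ : W →* P) {L M : List Vec} (h : Cfsg.Agent.J2.SixGens.chk L M = true) (x : ι → F) :
    E φ L x = E φ M x := by
  unfold E; rw [wd_eq h]

theorem E_eqN {φ : W →* P} (hφ : (((φ ng : P) : Matrix.GeneralLinearGroup ι F) : Matrix ι ι F) = -1)
    {L M : List Vec} (h : chkN L M = true) (x : ι → F) : E φ L x = -(E φ M x) := by
  have h1 : wd L = ng * wd M := wd_eqN h
  unfold E
  rw [h1, map_mul, Subgroup.coe_mul, Units.val_mul, hφ, Matrix.toLin'_mul, map_neg, Matrix.toLin'_one]; rfl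

theorem E_inj (φ : W →* P) (L : List Vec) : Injective (E φ L) := by
  intro x y hxy
  have h1 : ∀ z, E φ L.reverse (E φ L z) = z := by
    intro z
    rw [← E_append]
    unfold E
    rw [wd_append, wd_reverse, inv_mul_cancel, map_one, OneMemClass.coe_one, Units.val_one, Matrix.toLin'_one]; rfl
  rw [← h1 x, hxy, h1]

theorem rel (e : Soc P ≃* J2) {φ : W →* P} (hp : ∀ z, pj P e (φ z) = pr z)
    (hφ : (((φ ng : P) : Matrix.GeneralLinearGroup ι F) : Matrix ι ι F) = -1) :
    EightA.Rel (E φ wZ) (E φ wF) (E φ wV) (E φ wB) (fun i => E φ [tt i]) where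
  zz x := by rw [← E_append, E_eq φ k_zz, E_nil]
  TT i x := by
    change E φ [tt i] (E φ [tt i] x) = x
    rw [← E_append]
    exact (E_eq φ (k_TT i) x).trans (E_nil φ x)
  zT i x := by
    change E φ [tt i] (E φ wZ x) = E φ wZ (E φ [tt i] x)
    rw [← E_append, E_eq φ (k_zT i), E_append]
  anti i j hij x := by
    change E φ [tt i] (E φ [tt j] x) = -(E φ wZ (E φ [tt j] (E φ [tt i] x)))
    rw [← E_append, ← E_append, ← E_append]
    exact E_eqN hφ (k_anti i j hij) x
  fz x := by rw [← E_append, E_eq φ k_fz, E_append]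
  fT i x := by
    change E φ wF (E φ [tt i] x) = E φ [tt (i + 1)] (E φ wF x)
    rw [← E_append, E_eq φ (k_fT i), E_append]
  f5 := E_inj φ _
  vi := E_inj φ _
  bi := E_inj φ _
  vz x := by rw [← E_append, E_eq φ k_vz, E_append]
  bz x := by rw [← E_append, E_eq φ k_bz, E_append]
  vb x := by rw [← E_append, E_eqN hφ k_vb, E_append]
  vT i := ⟨vp i, fun x => by
    change E φ wV (E φ [tt i] x) = E φ [tt (vp i)] (E φ wV x)
    rw [← E_append, E_eq φ (k_vT i), E_append]⟩
  bT i := ⟨bp i, fun x => by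
    change E φ wB (E φ [tt i] x) = E φ [tt (bp i)] (E φ wB x)
    rw [← E_append, E_eq φ (k_bT i), E_append]⟩
  v0 x := by
    change E φ wV (E φ [tt 0] x) = E φ [tt 0] (E φ wV x)
    rw [← E_append, E_eq φ (k_vT 0), E_append]; rfl
  prod x := by
    change E φ [tt 0] (E φ [tt 1] (E φ [tt 2] (E φ [tt 3] (E φ [tt 4] x)))) = -(E φ wZ x)
    rw [← E_append, ← E_append, ← E_append, ← E_append]
    exact E_eqN hφ k_prod x
  nz := by
    by_contra hcon
    push Not at hcon
    have h1 : E φ wZ = -1 := LinearMap.ext hcon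
    have h2 : (((φ (wd wZ) : P) : Matrix.GeneralLinearGroup ι F) : Matrix ι ι F) = -1 := by
      apply Matrix.toLin'.injective
      rw [map_neg, Matrix.toLin'_one]
      exact h1
    have h3 : φ (wd wZ) = φ ng := Subtype.ext (Units.ext (by rw [h2, hφ]))
    have h4 : pr (wd wZ) = 1 := by
      rw [← hp, h3, hp]; exact pr_neg
    exact z_ne_one h4

/-- the case where the central involution acts as `-1` -/
theorem tr_of_neg (hn : Fintype.card ι ≤ 13) (e : Soc P ≃* J2) {φ : W →* P} (hp : ∀ z, pj P e (φ z) = pr z)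
    (h2 : (2 : F) ≠ 0) (hφ : (((φ ng : P) : Matrix.GeneralLinearGroup ι F) : Matrix ι ι F) = -1) (w : W) :
    tr ((φ w : P) : Matrix.GeneralLinearGroup ι F)⁻¹ = tr ((φ w : P) : Matrix.GeneralLinearGroup ι F) := by
  rcases rl_or w with hr | ⟨c, s, hs, hc⟩
  · exact tr_inv_of_rl (hr.map φ)
  · have hmul : ∀ g : W, tr ((φ (ng * g) : P) : Matrix.GeneralLinearGroup ι F) =
        -tr ((φ g : P) : Matrix.GeneralLinearGroup ι F) := by
      intro g
      unfold tr
      rw [map_mul, Subgroup.coe_mul, Units.val_mul, hφ, neg_one_mul, Matrix.trace_neg]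
    have h0 : tr ((φ eA : P) : Matrix.GeneralLinearGroup ι F) = 0 := by
      have h3 := EightA.trace_eq_zero h2 (rel e hp hφ) (by rw [Module.finrank_fintype_fun_eq_card]; exact hn)
      have h4 : E φ wV * E φ [tt 1] = E φ (wV ++ [tt 1]) := by
        apply LinearMap.ext
        intro x
        rw [E_append]; rfl
      change LinearMap.trace F (ι → F) (E φ wV * E φ [tt 1]) = 0 at h3
      rw [h4] at h3
      unfold E at h3
      rw [Matrix.trace_toLin'_eq] at h3
      exact h3
    have h1 : tr ((φ eA⁻¹ : P) : Matrix.GeneralLinearGroup ι F) = 0 := by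
      have h3 : tr ((φ (wd wV * eA * (wd wV)⁻¹) : P) : Matrix.GeneralLinearGroup ι F) = 0 := by
        rw [map_mul, map_mul, map_inv, Subgroup.coe_mul, Subgroup.coe_mul, Subgroup.coe_inv, tr_conj, h0]
      rw [eA_conj, hmul, neg_eq_zero] at h3
      exact h3
    have hw : tr ((φ w : P) : Matrix.GeneralLinearGroup ι F) = 0 := by
      have h3 : tr ((φ (c * w * c⁻¹) : P) : Matrix.GeneralLinearGroup ι F) = tr ((φ w : P) : Matrix.GeneralLinearGroup ι F) := by
        rw [map_mul, map_mul, map_inv, Subgroup.coe_mul, Subgroup.coe_mul, Subgroup.coe_inv, tr_conj]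
      rw [← h3, hc]
      rcases hs with rfl | rfl
      · rw [one_mul, h0]
      · rw [hmul, h0, neg_zero]
    have hw' : tr ((φ w : P) : Matrix.GeneralLinearGroup ι F)⁻¹ = 0 := by
      have h3 : tr ((φ (c * w⁻¹ * c⁻¹) : P) : Matrix.GeneralLinearGroup ι F) =
          tr ((φ w : P) : Matrix.GeneralLinearGroup ι F)⁻¹ := by
        rw [map_mul, map_mul, map_inv, map_inv, Subgroup.coe_mul, Subgroup.coe_mul, Subgroup.coe_inv, Subgroup.coe_inv,
          tr_conj]
      have h4 : c * w⁻¹ * c⁻¹ = eA⁻¹ * s⁻¹ := by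
        have h5 := congrArg (fun g => g⁻¹) hc
        simp only [mul_inv_rev, inv_inv] at h5
        rw [← h5, mul_assoc]
      rw [← h3, h4]
      rcases hs with rfl | rfl
      · rw [inv_one, mul_one, h1]
      · rw [ng_inv, ng_comm, hmul, h1, neg_zero]
    rw [hw, hw']

/-- **Stage 1 for `J2`.** A core of degree at most 12 of type `J2` is self-dual. -/
theorem sd (hC : Core P) (e : Soc P ≃* J2) (hn : Fintype.card ι ≤ 12) : SD P := by
  obtain ⟨φ, hs, hp⟩ := exists_cover hC e
  intro g hg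
  obtain ⟨w, hw⟩ := hs ⟨g, hg⟩
  have h1 : tr ((φ w : P) : Matrix.GeneralLinearGroup ι F)⁻¹ = tr ((φ w : P) : Matrix.GeneralLinearGroup ι F) := by
    rcases ng_image e hp with h | h
    · exact tr_of_one (Subtype.ext (Units.ext h)) w
    · by_cases h2 : (2 : F) = 0
      · refine tr_of_one (Subtype.ext (Units.ext (h.trans ?_))) w
        have h3 : (-1 : F) = 1 := by
          rw [neg_eq_iff_add_eq_zero]
          have h4 : (1 : F) + 1 = 2 := by norm_num
          rw [h4, h2]
        have h5 : (-1 : Matrix ι ι F) = (-1 : F) • 1 := by rw [neg_smul, one_smul]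
        rw [h5, h3, one_smul]; rfl
      · exact tr_of_neg (hn.trans (by norm_num)) e hp h2 h w
  rw [hw] at h1
  exact h1

theorem sd_iso (hC : Core P) (e : Nonempty (Soc P ≃* J2)) (hn : Fintype.card ι ≤ 12) : SD P :=
  sd hC e.some hn

end rep

end Cfsg.Agent.H1.TJ2
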