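import Cfsg.Agent.H1.J2Cover
import Cfsg.Agent.S2040

/-!
# The double cover of the Hall-Janko group: classes and real elements

`W` (the icosian reflection group) is the double cover. `lift`: every element of `W` is conjugate to plus or minus
one of 21 words.
-/

set_option autoImplicit false
set_option maxRecDepth 100000

namespace Cfsg.Agent.H1.J2Lift

open Subgroup Cfsg.Spor Cfsg.Agent.J2.ZTau Cfsg.Agent.J2.Ico Cfsg.Agent.J2.Lattice Cfsg.Agent.J2.Refl
  Cfsg.Agent.J2.Group Cfsg.Agent.J2.Stab Cfsg.Agent.J2.SixGens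
open Cfsg.Agent.H1.J2Cover Cfsg.Agent.H1.RealTool
open Cfsg.Agent.J2
open Cfsg.Agent.J2.HundredGens (gw pw pw_eq rels_G HG_top)
open Cfsg.Agent.J2Type.PresIso (P hom hom_of hom_surjective card_P)

/-- the letters of degree 100 in `W` -/
def letr (k : ℕ) : List Vec := match k with
  | 0 => wZ
  | 1 => wZ ++ wL ++ wY ++ wZ
  | 2 => wY ++ wZ ++ wY.reverse
  | 3 => wA
  | _ => wV

/-- the words in `W` -/
def W5 (L : List ℕ) : List Vec := L.flatMap letr

/-- more letters -/
def let2 (k : ℕ) : List Vec := match k with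
  | 0 => wZ
  | 1 => wL
  | 2 => wY
  | 3 => wY.reverse
  | 4 => wV
  | 5 => wX
  | 6 => wX.reverse
  | 7 => wA
  | 8 => letr 1
  | _ => letr 2

/-- the words in `W` -/
def C2 (L : List ℕ) : List Vec := L.flatMap let2

theorem W5_cons (k : ℕ) (L : List ℕ) : W5 (k :: L) = letr k ++ W5 L := rfl

/-! ### the isomorphism -/

theorem pres_bij : Function.Bijective (hom rels_G) := by
  obtain ⟨hfin, hcard⟩ := card_P
  have hc := Cfsg.Agent.SporadicA.J2Hundred.card_G
  have hs := hom_surjective rels_G HG_top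
  rw [Nat.bijective_iff_surjective_and_card]
  refine ⟨hs, le_antisymm (by rw [hc]; exact hcard) (Nat.card_le_card_of_surjective _ hs)⟩

theorem pres_bij' : Function.Bijective (hom rels) := by
  obtain ⟨hfin, hcard⟩ := card_P
  have hsG := Cfsg.Agent.SporadicA.J2Hundred.simple
  have hsimple : IsSimpleGroup P := (MulEquiv.ofBijective _ pres_bij).isSimpleGroup
  have hker : (hom rels).ker = ⊥ := by
    rcases hsimple.eq_bot_or_eq_top_of_normal (hom rels).ker inferInstance with h1 | h1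
    · exact h1
    · exfalso
      apply z_ne_one
      have h2 : (PresentedGroup.of 3 : P) ∈ (hom rels).ker := by rw [h1]; exact Subgroup.mem_top _
      rw [MonoidHom.mem_ker, hom_of] at h2
      exact h2
  have : Finite Cfsg.Spor.J2 := Nat.finite_of_card_ne_zero (by rw [Cfsg.Agent.S2040.card_J2]; norm_num)
  rw [Nat.bijective_iff_injective_and_card]
  refine ⟨(MonoidHom.ker_eq_bot_iff _).1 hker, ?_⟩
  rw [Nat.card_congr (MulEquiv.ofBijective _ pres_bij).toEquiv, Cfsg.Agent.SporadicA.J2Hundred.card_G,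
    Cfsg.Agent.S2040.card_J2]

/-- the isomorphism -/
noncomputable def psi : Cfsg.Agent.SporadicA.J2Hundred.G ≃* J2 :=
  (MulEquiv.ofBijective _ pres_bij).symm.trans (MulEquiv.ofBijective _ pres_bij')

theorem psi_hom (x : P) : psi (hom rels_G x) = hom rels x := by
  unfold psi
  rw [MulEquiv.trans_apply]
  have h1 : (MulEquiv.ofBijective _ pres_bij).symm (hom rels_G x) = x := by
    rw [MulEquiv.symm_apply_eq]; rfl
  rw [h1]; rfl

theorem psi_V : psi (gw HundredGens.wV) = J wV := by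
  have h := psi_hom (PresentedGroup.of 0)
  rw [hom_of, hom_of] at h; exact h
theorem psi_A : psi (gw HundredGens.wA) = J wA := by
  have h := psi_hom (PresentedGroup.of 2)
  rw [hom_of, hom_of] at h; exact h
theorem psi_Z : psi (gw HundredGens.wZ) = J wZ := by
  have h := psi_hom (PresentedGroup.of 3)
  rw [hom_of, hom_of] at h; exact h
theorem psi_Y : psi (gw HundredGens.wY) = J wY := by
  have h := psi_hom (PresentedGroup.of 4)
  rw [hom_of, hom_of] at h; exact h
theorem psi_L : psi (gw HundredGens.wL) = J wL := by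
  have h := psi_hom (PresentedGroup.of 5)
  rw [hom_of, hom_of] at h; exact h

theorem psi_letr (k : ℕ) : psi (gw [k]) = J (letr k) := by
  match k with
  | 0 => exact psi_Z
  | 1 =>
    have h : gw [1] = gw (HundredGens.wZ ++ HundredGens.wL ++ HundredGens.wY ++ HundredGens.wZ) :=
      Subtype.ext (pw_eq (by decide +kernel))
    rw [h, gw_append, gw_append, gw_append, map_mul, map_mul, map_mul, psi_Z, psi_L, psi_Y]
    change _ = J (wZ ++ wL ++ wY ++ wZ)
    rw [J_append, J_append, J_append]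
  | 2 =>
    have h : gw [2] = gw (HundredGens.wY ++ HundredGens.wZ ++ HundredGens.wY.reverse) :=
      Subtype.ext (pw_eq (by decide +kernel))
    rw [h, gw_append, gw_append, gw_reverse, map_mul, map_mul, map_inv, psi_Z, psi_Y]
    change _ = J (wY ++ wZ ++ wY.reverse)
    rw [J_append, J_append, J_reverse]
  | 3 => exact psi_A
  | (n + 4) =>
    have h : gw [n + 4] = gw HundredGens.wV := rfl
    rw [h]; exact psi_V

theorem psi_gw (L : List ℕ) : psi (gw L) = J (W5 L) := by
  induction L with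
  | nil =>
    have h : gw [] = 1 := rfl
    rw [h, map_one]; exact J_nil.symm
  | cons k L ih =>
    have h1 : gw (k :: L) = gw [k] * gw L := by rw [← gw_append]; rfl
    rw [h1, map_mul, ih, psi_letr, W5_cons, J_append]

/-! ### the centre -/

/-- the central involution -/
noncomputable def ng : W := ⟨Equiv.neg Lam, neg_mem_W⟩

theorem ng_mem : ng ∈ center W := neg_mem_center

theorem ng_comm (w : W) : w * ng = ng * w := mem_center_iff.1 ng_mem w

theorem ng_sq : ng * ng = 1 := by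
  apply Subtype.ext
  ext1 v
  exact neg_neg v

theorem ng_ne : ng ≠ 1 := by
  intro h
  have h1 : (Equiv.neg Lam : Equiv.Perm Lam) = 1 := congrArg Subtype.val h
  have h2 := congrArg (fun f : Equiv.Perm Lam => f (pt root_e1)) h1
  have h3 : -(pt root_e1) = pt root_e1 := h2
  have h4 := congrArg Subtype.val h3
  have h5 : -e1 = e1 := h4
  revert h5
  decide

theorem mem_center {s : W} (hs : s ∈ center W) : s = 1 ∨ s = ng := by
  by_cases h : s = 1
  · exact Or.inl h
  · obtain ⟨y, -, hy⟩ := (Nat.card_eq_two_iff' (1 : center W)).1 Cfsg.Agent.S2040.center_card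
    have h1 := hy ⟨s, hs⟩ (fun h' => h (congrArg Subtype.val h'))
    have h2 := hy ⟨ng, ng_mem⟩ (fun h' => ng_ne (congrArg Subtype.val h'))
    exact Or.inr (congrArg Subtype.val (h1.trans h2.symm))

/-! ### short words -/

/-- the additional letters in degree 100 -/
def hl (k : ℕ) : List ℕ := match k with
  | 0 => HundredGens.wZ
  | 1 => HundredGens.wL
  | 2 => HundredGens.wY
  | 3 => HundredGens.wY.reverse
  | 4 => HundredGens.wV
  | 5 => HundredGens.wX
  | 6 => HundredGens.wX.reverse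
  | 7 => HundredGens.wA
  | 8 => [1]
  | _ => [2]

/-- words in degree 100 -/
def H2 (L : List ℕ) : List ℕ := L.flatMap hl

theorem psi_X : psi (gw HundredGens.wX) = J wX := by
  have h := psi_hom (PresentedGroup.of 1)
  rw [hom_of, hom_of] at h; exact h

theorem psi_hl (k : ℕ) : psi (gw (hl k)) = J (let2 k) := by
  match k with
  | 0 => exact psi_Z
  | 1 => exact psi_L
  | 2 => exact psi_Y
  | 3 =>
    change psi (gw HundredGens.wY.reverse) = J wY.reverse
    rw [gw_reverse, map_inv, psi_Y, J_reverse]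
  | 4 => exact psi_V
  | 5 => exact psi_X
  | 6 =>
    change psi (gw HundredGens.wX.reverse) = J wX.reverse
    rw [gw_reverse, map_inv, psi_X, J_reverse]
  | 7 => exact psi_A
  | 8 => exact psi_letr 1
  | (n + 9) => exact psi_letr 2

theorem psi_H2 (L : List ℕ) : psi (gw (H2 L)) = J (C2 L) := by
  induction L with
  | nil =>
    have h : gw (H2 []) = 1 := rfl
    rw [h, map_one]; exact J_nil.symm
  | cons k L ih =>
    have h1 : H2 (k :: L) = hl k ++ H2 L := rfl
    have h2 : C2 (k :: L) = let2 k ++ C2 L := rfl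
    rw [h1, h2, gw_append, map_mul, ih, psi_hl, J_append]

/-- short representatives -/
def sw (j : ℕ) : List ℕ := match j with
  | 1 => [0]
  | 2 => [4]
  | 3 => [3, 1, 0]
  | 4 => [2]
  | 5 => [5, 7, 3, 0, 2, 7, 6, 4]
  | 6 => [5]
  | 7 => [2, 1, 0]
  | 8 => [4, 3, 1, 0]
  | 9 => [5, 0]
  | 10 => [4, 2]
  | 11 => [7, 4, 1]
  | 12 => [4, 2, 1, 0]
  | 13 => [5, 3, 1, 0]
  | 14 => [7, 1, 7, 1]
  | 15 => [7, 4, 2, 1, 0]
  | 16 => [8, 5, 3, 1]
  | 17 => [7, 6, 4, 0]
  | 18 => [7, 6, 4, 3]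
  | 19 => [7, 6, 4]
  | 20 => [7, 5, 4]
  | _ => []

/-- conjugating words -/
def dw (j : ℕ) : List ℕ := match j with
  | 2 => [7, 4]
  | 3 => [0]
  | 4 => [0, 2, 1]
  | 5 => [3, 0, 1, 7, 1, 0, 2, 4]
  | 6 => [4, 7, 6, 4, 5]
  | 7 => [1]
  | 8 => [7, 4, 0]
  | 9 => [4, 7, 6, 4, 5]
  | 10 => [0, 2, 1]
  | 11 => [6, 4, 3, 7, 0, 3, 7, 4, 6, 0, 1]
  | 12 => [1]
  | 13 => [4, 7, 6, 4, 5, 0]
  | 14 => [0, 3, 1]
  | 15 => [7, 0, 2, 1, 0, 2]
  | 16 => [2, 7, 0, 1, 7, 0]
  | 17 => [3, 7, 4, 3, 7, 2, 0, 1, 0]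
  | 18 => [7, 4, 3, 7, 4, 0, 3, 7, 4, 0, 1, 7, 0]
  | 19 => [6, 4, 5, 2, 7, 4, 0, 2, 7, 2, 0]
  | 20 => [7, 1, 7, 4, 6, 2, 0, 1, 7, 4, 6, 1, 0]
  | _ => []

/-- the check in degree 100 -/
def oks (j : ℕ) : Bool :=
  Cfsg.Agent.SporadicA.PermTab.allB (fun i => Nat.beq (HundredGens.run (H2 (dw j) ++ rL j) (J2Cls.bs i))
    (HundredGens.run (H2 (sw j) ++ H2 (dw j)) (J2Cls.bs i))) 4

theorem oks_all : Cfsg.Agent.SporadicA.PermTab.allB oks 21 = true := by decide +kernel

theorem conj_short {j : ℕ} (hj : j < 21) : gw (H2 (dw j)) * gw (rL j) * (gw (H2 (dw j)))⁻¹ = gw (H2 (sw j)) := by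
  have h := (Cfsg.Agent.SporadicA.PermTab.allB_iff _ _).1 oks_all j hj
  have h1 : gw (H2 (dw j) ++ rL j) = gw (H2 (sw j) ++ H2 (dw j)) := by
    apply Subtype.ext
    change pw _ = pw _
    apply J2Cls.pw_eq_of_base
    intro i hi
    exact Nat.eq_of_beq_eq_true ((Cfsg.Agent.SporadicA.PermTab.allB_iff _ _).1 h i hi)
  rw [gw_append, gw_append] at h1
  rw [h1, mul_inv_cancel_right]

/-- every element of `W` is conjugate to plus or minus one of the short words -/
theorem lift (w : W) : ∃ j < 21, ∃ c s : W, (s = 1 ∨ s = ng) ∧ c * w * c⁻¹ = s * wd (C2 (sw j)) := by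
  obtain ⟨j, hj, g, hg⟩ := cover (psi.symm (pr w))
  obtain ⟨c, hc⟩ := pr_surjective (psi (gw (H2 (dw j)) * g))
  have h1 : pr (c * w * c⁻¹) = pr (wd (C2 (sw j))) := by
    have h2 : (gw (H2 (dw j)) * g) * psi.symm (pr w) * (gw (H2 (dw j)) * g)⁻¹ = gw (H2 (sw j)) := by
      rw [← conj_short hj, ← hg]; group
    have h3 := congrArg psi h2
    rw [map_mul, map_mul, map_inv, MulEquiv.apply_symm_apply, psi_H2] at h3
    rw [map_mul, map_mul, map_inv, hc]
    exact h3
  refine ⟨j, hj, c, c * w * c⁻¹ * (wd (C2 (sw j)))⁻¹, mem_center ?_, by rw [inv_mul_cancel_right]⟩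
  rw [← pr_eq_one, map_mul, h1, map_inv, mul_inv_cancel]

end Cfsg.Agent.H1.J2Lift
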