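import Cfsg.Agent.H1.J2Lift

/-!
# The double cover of the Hall-Janko group: real elements

`rl_word`: 20 of the 21 words are conjugate to their inverse in `W`; the remaining word (`j = 5`, an element of
order 8) is conjugate to minus its inverse. Relations used by `EightA`.
-/

set_option autoImplicit false
set_option maxRecDepth 100000

namespace Cfsg.Agent.H1.J2Words

open Subgroup Cfsg.Spor Cfsg.Agent.J2.ZTau Cfsg.Agent.J2.Ico Cfsg.Agent.J2.Lattice Cfsg.Agent.J2.Refl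
  Cfsg.Agent.J2.Group Cfsg.Agent.J2.Stab Cfsg.Agent.J2.SixGens
open Cfsg.Agent.H1.J2Cover Cfsg.Agent.H1.RealTool Cfsg.Agent.H1.J2Lift

/-! ### the words -/

/-- conjugating words -/
def cw (j : ℕ) : List ℕ := match j with
  | 2 => [6, 4, 5]
  | 3 => [0]
  | 4 => [1]
  | 6 => [7]
  | 7 => [0]
  | 8 => [6, 4, 5, 0]
  | 9 => [7]
  | 10 => [6, 4, 5, 1]
  | 11 => [7]
  | 12 => [6, 4, 5, 0]
  | 13 => [7, 0]
  | 14 => [1]
  | 15 => [7, 0]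
  | 16 => [7, 0]
  | 17 => [4]
  | 18 => [4, 1]
  | 19 => [4]
  | 20 => [4]
  | _ => []

/-- the check for the word `j` -/
def okj (j : ℕ) : Bool := chk (C2 (cw j) ++ C2 (sw j)) ((C2 (sw j)).reverse ++ C2 (cw j))

theorem ok0 : okj 0 = true := by decide +kernel
theorem ok1 : okj 1 = true := by decide +kernel
theorem ok2 : okj 2 = true := by decide +kernel
theorem ok3 : okj 3 = true := by decide +kernel
theorem ok4 : okj 4 = true := by decide +kernel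
theorem ok6 : okj 6 = true := by decide +kernel
theorem ok7 : okj 7 = true := by decide +kernel
theorem ok8 : okj 8 = true := by decide +kernel
theorem ok9 : okj 9 = true := by decide +kernel
theorem ok10 : okj 10 = true := by decide +kernel
theorem ok11 : okj 11 = true := by decide +kernel
theorem ok12 : okj 12 = true := by decide +kernel
theorem ok13 : okj 13 = true := by decide +kernel
theorem ok14 : okj 14 = true := by decide +kernel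
theorem ok15 : okj 15 = true := by decide +kernel
theorem ok16 : okj 16 = true := by decide +kernel
theorem ok17 : okj 17 = true := by decide +kernel
theorem ok18 : okj 18 = true := by decide +kernel
theorem ok19 : okj 19 = true := by decide +kernel
theorem ok20 : okj 20 = true := by decide +kernel

theorem okj_all {j : ℕ} (hj : j < 21) (h5 : j ≠ 5) : okj j = true := by
  interval_cases j
  · exact ok0
  · exact ok1
  · exact ok2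
  · exact ok3
  · exact ok4
  · exact absurd rfl h5
  · exact ok6
  · exact ok7
  · exact ok8
  · exact ok9
  · exact ok10
  · exact ok11
  · exact ok12
  · exact ok13
  · exact ok14
  · exact ok15
  · exact ok16
  · exact ok17
  · exact ok18
  · exact ok19
  · exact ok20

theorem rl_word {j : ℕ} (hj : j < 21) (h5 : j ≠ 5) : Rl (wd (C2 (sw j))) := by
  have h := wd_eq (okj_all hj h5)
  rw [wd_append, wd_append, wd_reverse] at h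
  exact ⟨wd (C2 (cw j)), by rw [h, mul_inv_cancel_right]⟩

theorem rl_ng_mul {w : W} (h : Rl w) : Rl (ng * w) := by
  obtain ⟨c, hc⟩ := h
  refine ⟨c, ?_⟩
  have h1 : ng⁻¹ = ng := inv_eq_of_mul_eq_one_left ng_sq
  calc c * (ng * w) * c⁻¹ = (c * ng) * w * c⁻¹ := by group
    _ = (ng * c) * w * c⁻¹ := by rw [ng_comm]
    _ = ng * (c * w * c⁻¹) := by group
    _ = w⁻¹ * ng := by rw [hc, ng_comm]
    _ = (ng * w)⁻¹ := by rw [mul_inv_rev, h1]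

/-- root -/
def t0 : Vec := ⟨⟨⟨0, 0⟩, ⟨0, 0⟩, ⟨0, 0⟩, ⟨0, 0⟩⟩, ⟨⟨1, 0⟩, ⟨1, -1⟩, ⟨-1, 0⟩, ⟨1, 0⟩⟩, ⟨⟨-1, 0⟩, ⟨-3, 1⟩, ⟨3, -2⟩, ⟨1, 0⟩⟩⟩
/-- root -/
def t1 : Vec := ⟨⟨⟨0, 0⟩, ⟨0, 0⟩, ⟨0, 0⟩, ⟨0, 0⟩⟩, ⟨⟨-2, 1⟩, ⟨-1, 0⟩, ⟨2, -1⟩, ⟨0, 1⟩⟩, ⟨⟨2, -1⟩, ⟨-1, 0⟩, ⟨0, -1⟩, ⟨2, -1⟩⟩⟩
/-- root -/
def t2 : Vec := ⟨⟨⟨0, 0⟩, ⟨0, 0⟩, ⟨0, 0⟩, ⟨0, 0⟩⟩, ⟨⟨0, 0⟩, ⟨0, 0⟩, ⟨0, 0⟩, ⟨0, 0⟩⟩, ⟨⟨4, -2⟩, ⟨0, 0⟩, ⟨-2, 0⟩, ⟨4, -2⟩⟩⟩
/-- root -/
def t3 : Vec := ⟨⟨⟨0, 0⟩, ⟨0, 0⟩, ⟨0, 0⟩, ⟨0, 0⟩⟩, ⟨⟨2, -1⟩, ⟨1, 0⟩, ⟨-2, 1⟩, ⟨2, -1⟩⟩, ⟨⟨2, -1⟩, ⟨1, 0⟩, ⟨-2, 1⟩, ⟨2, -1⟩⟩⟩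
/-- root -/
def t4 : Vec := ⟨⟨⟨0, 0⟩, ⟨0, 0⟩, ⟨0, 0⟩, ⟨0, 0⟩⟩, ⟨⟨-1, 0⟩, ⟨-1, 1⟩, ⟨1, 0⟩, ⟨1, 0⟩⟩, ⟨⟨1, 0⟩, ⟨3, -1⟩, ⟨-3, 2⟩, ⟨-1, 0⟩⟩⟩

/-- the five reflections -/
def tt (i : ZMod 5) : Vec := match i with
  | 0 => t0
  | 1 => t1
  | 2 => t2
  | 3 => t3
  | 4 => t4

/-- permutation induced by `v` -/
def vp (i : ZMod 5) : ZMod 5 := -i
/-- permutation induced by `b` -/
def bp (i : ZMod 5) : ZMod 5 := match i with
  | 0 => 0
  | 1 => 3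
  | 2 => 4
  | 3 => 1
  | 4 => 2

/-- `f` -/
def wF : List Vec := wV ++ wX ++ wA
/-- `b` -/
def wB : List Vec := wX.reverse ++ wV ++ wX

theorem k_zz : chk (wZ ++ wZ) [] = true := by decide +kernel
theorem k_TT : ∀ i : ZMod 5, chk [tt i, tt i] [] = true := by decide +kernel
theorem k_zT : ∀ i : ZMod 5, chk ([tt i] ++ wZ) (wZ ++ [tt i]) = true := by decide +kernel
theorem k_anti : ∀ i j : ZMod 5, i ≠ j → chkN [tt i, tt j] (wZ ++ [tt j, tt i]) = true := by decide +kernel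
theorem k_fz : chk (wF ++ wZ) (wZ ++ wF) = true := by decide +kernel
theorem k_fT : ∀ i : ZMod 5, chk (wF ++ [tt i]) ([tt (i + 1)] ++ wF) = true := by decide +kernel
theorem k_vz : chk (wV ++ wZ) (wZ ++ wV) = true := by decide +kernel
theorem k_bz : chk (wB ++ wZ) (wZ ++ wB) = true := by decide +kernel
theorem k_vb : chkN (wV ++ wB) (wB ++ wV) = true := by decide +kernel
theorem k_vT : ∀ i : ZMod 5, chk (wV ++ [tt i]) ([tt (vp i)] ++ wV) = true := by decide +kernel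
theorem k_bT : ∀ i : ZMod 5, chk (wB ++ [tt i]) ([tt (bp i)] ++ wB) = true := by decide +kernel
theorem k_prod : chkN [tt 0, tt 1, tt 2, tt 3, tt 4] wZ = true := by decide +kernel
theorem k_five : chkN (C2 (sw 5)) (wV ++ [tt 1]) = true := by decide +kernel

end Cfsg.Agent.H1.J2Words
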