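import Cfsg.Agent.H1.RealCover
import Cfsg.Agent.H1.J1Real
import Cfsg.Agent.S2039

/-!
# Row `J₁` of the low-dimensional representations: every core is self-dual
-/

set_option autoImplicit false

namespace Cfsg.Agent.H1.TJ1

open Cfsg Cfsg.Geo Cfsg.Agent.H915.LD Cfsg.Agent.H1.RealCover

universe u v

variable {ι : Type} [Fintype ι] [DecidableEq ι] {F : Type u} [Field F] {P : Subgroup (Matrix.GeneralLinearGroup ι F)}

/-- **`J₁`: self-dual.** -/
theorem sd (hC : Core P) (e : Soc P ≃* Spor.J1) : SD P := by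
  have : Finite Spor.J1 := H413.JOneLocal.fin_J1
  exact sd_of_real_one hC e S2039.result J1Real.real

theorem sd_iso (hC : Core P) (h : Spor.IsoJ1 (Soc P)) : SD P := by
  obtain ⟨e⟩ := h
  exact sd hC e

end Cfsg.Agent.H1.TJ1
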