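import Mathlib
import Cfsg.Agent.H1.RowPSL
import Cfsg.Agent.H1.QsNode

/-!
# `L₃(q)`, `q ≥ 4` even: `T ≤ L` for all `L ∈ ℒ(G, T)` (helper1)
-/

set_option autoImplicit false
set_option linter.unusedSectionVars false

namespace Cfsg.Agent.H1.TopPSL

open Cfsg Matrix
open CoxeterSystem Cfsg.Agent.ChevalleyStructure.CoxeterGeom Cfsg.Agent.Tits.Roots Cfsg.Agent.Tits.Core
  Cfsg.Agent.Tits.RootComb Cfsg.Agent.Tits.Exchange Cfsg.Agent.Nodes.Reps Cfsg.Agent.Nodes.BNOf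
  Cfsg.Agent.Nodes.StabComb Cfsg.Agent.Nodes.Bruhat Cfsg.Agent.Nodes.OppDec Cfsg.Agent.Nodes.LeviDec
  Cfsg.Agent.KFacts.RgdBorelTits Cfsg.Agent.KFacts.RgdFilt Cfsg.Agent.H1.Over Cfsg.Agent.H1.RgdRow
  Cfsg.Agent.H1.RankTwo Cfsg.Agent.H1.RowExc Cfsg.Agent.H1.EmbSL Cfsg.Agent.H1.QsNode Cfsg.Agent.H1.RowPSL
open Cfsg.Agent.Nodes.RGDTypeA Cfsg.Agent.Nodes.RootsA Cfsg.Agent.TitsThree.KSideA Cfsg.Agent.LieClassical.SLGen
open Cfsg.Agent.LieRecognition.BNCox (cA)
open scoped commutatorElement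

universe u v w

/-- a nonabelian simple group is perfect -/
theorem commutator_eq_top {Q : Type*} [Group Q] (hQ : IsSimpleGroup Q) (hc : ¬ IsMulCommutative Q) :
    commutator Q = ⊤ := by
  rcases hQ.eq_bot_or_eq_top_of_normal (commutator Q) inferInstance with h | h
  · exfalso
    apply hc
    refine ⟨⟨fun a b => ?_⟩⟩
    have h1 : ⁅a, b⁆ ∈ commutator Q := Subgroup.commutator_mem_commutator (Subgroup.mem_top a) (Subgroup.mem_top b)
    rw [h, Subgroup.mem_bot] at h1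
    exact commutatorElement_eq_one_iff_mul_comm.1 h1
  · exact h

/-- the image of a perfect group lies in the commutator group of every overgroup -/
theorem range_le_comm {Q Y : Type*} [Group Q] [Group Y] (hQ : commutator Q = ⊤) (φ : Q →* Y) {D : Subgroup Y}
    (hD : φ.range ≤ D) : φ.range ≤ ⁅D, D⁆ := by
  have h1 : φ.range = ⁅φ.range, φ.range⁆ := by
    rw [MonoidHom.range_eq_map, ← Subgroup.map_commutator, ← commutator_def, hQ]
  rw [h1]
  exact Subgroup.commutator_mono hD hD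

section general

variable {I W Y : Type*} [Fintype I] [DecidableEq I] [Group W] [Group Y] {M : CoxeterMatrix I}
  {cs : CoxeterSystem M W} {A : I → I → ℤ} {h : IsCartan M A} {X : (I → ℤ) → Subgroup Y}

theorem perfNode_of {i : I} (h1 : ∀ r ∈ RGD.Pos cs h, X r ≤
      ⁅RGD.Sup X (RGD.Pos cs h) ⊔ X (-sr i), RGD.Sup X (RGD.Pos cs h) ⊔ X (-sr i)⁆)
    (h2 : X (-sr i) ≤ ⁅RGD.Sup X (RGD.Pos cs h) ⊔ X (-sr i), RGD.Sup X (RGD.Pos cs h) ⊔ X (-sr i)⁆) :
    PerfNode cs h X i :=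
  ⟨RGD.Sup_le h1, h2⟩

end general

variable {F : Type w} [Field F]

theorem XX_le_comm {ι : Type*} [DecidableEq ι] [Fintype ι] {a b c : ι} (hab : a ≠ b) (hbc : b ≠ c) (hac : a ≠ c)
    {D : Subgroup (SpecialLinearGroup ι F)} (h1 : XX F a b ≤ D) (h2 : XX F b c ≤ D) : XX F a c ≤ ⁅D, D⁆ := by
  rintro _ ⟨t, rfl⟩
  have h3 := tv_comm hab hbc hac t (1 : F)
  rw [mul_one] at h3
  rw [← h3]
  exact Subgroup.commutator_mem_commutator (h1 (tv_mem_XX _ _ _)) (h2 (tv_mem_XX _ _ _))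

variable [Fintype F] [CharP F 2]

theorem pair_le_comm {n : ℕ} (h4 : 4 ≤ Fintype.card F) (i : Fin n) {D : Subgroup (ProjectiveSpecialLinearGroup (Fin (n + 1)) F)}
    (h1 : (X F (sr i)).map (pr n F) ≤ D) (h2 : (X F (-sr i)).map (pr n F) ≤ D) :
    (X F (sr i)).map (pr n F) ≤ ⁅D, D⁆ ∧ (X F (-sr i)).map (pr n F) ≤ ⁅D, D⁆ := by
  have h3 := range_le_comm (commutator_eq_top (simple_sl F h4) (not_comm_sl F h4)) ((pr n F).comp (emb (pairEmb i)))
    (D := D) (by rw [range_pair]; exact sup_le h1 h2)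
  rw [range_pair] at h3
  exact ⟨le_sup_left.trans h3, le_sup_right.trans h3⟩

theorem map_XX_le_comm {n : ℕ} {a b c : Fin (n + 1)} (hab : a ≠ b) (hbc : b ≠ c) (hac : a ≠ c)
    {D : Subgroup (ProjectiveSpecialLinearGroup (Fin (n + 1)) F)} (h1 : (XX F a b).map (pr n F) ≤ D)
    (h2 : (XX F b c).map (pr n F) ≤ D) : (XX F a c).map (pr n F) ≤ ⁅D, D⁆ := by
  have h3 : XX F a c ≤ ⁅D.comap (pr n F), D.comap (pr n F)⁆ :=
    XX_le_comm hab hbc hac (Subgroup.map_le_iff_le_comap.1 h1) (Subgroup.map_le_iff_le_comap.1 h2)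
  refine (Subgroup.map_mono h3).trans ?_
  rw [Subgroup.map_commutator]
  exact Subgroup.commutator_mono (Subgroup.map_comap_le _ _) (Subgroup.map_comap_le _ _)

theorem perfNode_psl_three (h4 : 4 ≤ Fintype.card F) (i : Fin 2) :
    PerfNode (cA 2).toCoxeterSystem (Nodes.RootsA.isCartan 2) (fun x => (X F x).map (pr 2 F)) i := by
  set D := RGD.Sup (fun x => (X F x).map (pr 2 F)) (RGD.Pos (cA 2).toCoxeterSystem (Nodes.RootsA.isCartan 2)) ⊔
    (X F (-sr i)).map (pr 2 F) with hD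
  have hpos : ∀ {a b : Fin 3}, a < b → (XX F a b).map (pr 2 F) ≤ D := by
    intro a b hab
    rw [← X_rtA hab.ne]
    refine le_sup_of_le_left (RGD.le_Sup (X := fun x => (X F x).map (pr 2 F)) ⟨isRoot_rtA _ _ hab.ne, ?_⟩)
    exact rtA_nonneg_iff.2 hab.le
  have hneg : (XX F i.succ i.castSucc).map (pr 2 F) ≤ D := by
    rw [← X_neg_sr]
    exact le_sup_right
  have hs : (X F (sr i)).map (pr 2 F) ≤ D := by
    rw [X_sr]
    exact hpos (Fin.castSucc_lt_succ)
  obtain ⟨h1, h2⟩ := pair_le_comm h4 i hs le_sup_right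
  refine perfNode_of (fun r hr => ?_) h2
  obtain ⟨a, b, hab, rfl⟩ := exists_of_isRoot _ _ hr.1
  have hlt : a < b := lt_of_le_of_ne (rtA_nonneg_iff.1 hr.2) hab
  rw [X_sr] at h1
  rw [X_rtA hab]
  fin_cases i <;> fin_cases a <;> fin_cases b <;> first
    | exact absurd hlt (by decide)
    | exact h1
    | exact map_XX_le_comm (a := 0) (b := 1) (c := 2) (by decide) (by decide) (by decide) (hpos (by decide)) (hpos (by decide))
    | exact map_XX_le_comm (a := 1) (b := 0) (c := 2) (by decide) (by decide) (by decide) hneg (hpos (by decide))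
    | exact map_XX_le_comm (a := 0) (b := 2) (c := 1) (by decide) (by decide) (by decide) (hpos (by decide)) hneg

theorem rowT_psl_three' (h4 : 4 ≤ Fintype.card F) : RowT (ProjectiveSpecialLinearGroup (Fin 3) F) := by
  obtain ⟨Φ, _, R, hF⟩ := exists_filt (F := F) 2
  have : Finite (ProjectiveSpecialLinearGroup (Fin (2 + 1)) F) := Quotient.finite _
  exact rowT_of_rgd hF (Nodes.RGDTypeA.G1_psl_eq_top _ _) rowL_psl_three
    (fun J _ => perfJ_of_nodes (solvable_T 2) (perfNode_psl_three h4) J)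

/-- **`T ≤ L` in `L₃(q)`, `q ≥ 4` even** -/
theorem rowT_psl_three {G : Type v} [Group G] [Finite G] (h4 : 4 ≤ Fintype.card F)
    (e : G ≃* ProjectiveSpecialLinearGroup (Fin 3) F) : RowT G :=
  RowT.congr e (rowT_psl_three' h4)

end Cfsg.Agent.H1.TopPSL
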