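import Mathlib
import Cfsg.Agent.H1.RowChev
import Cfsg.Agent.H1.TopPSL
import Cfsg.Agent.ChevalleyStructure.BruhatSplit

/-!
# `G₂(q)`, `q ≥ 4` even: `T ≤ L` for all `L ∈ ℒ(G, T)` (helper1)
-/

set_option autoImplicit false
set_option linter.unusedSectionVars false

namespace Cfsg.Agent.H1.TopChev

open Cfsg Cfsg.Lie
open CoxeterSystem Cfsg.Agent.ChevalleyStructure.CoxeterGeom Cfsg.Agent.Tits.Roots Cfsg.Agent.Tits.Core
  Cfsg.Agent.Tits.RootComb Cfsg.Agent.Tits.Exchange Cfsg.Agent.Nodes.Reps Cfsg.Agent.Nodes.BNOf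
  Cfsg.Agent.Nodes.StabComb Cfsg.Agent.Nodes.Bruhat Cfsg.Agent.Nodes.OppDec Cfsg.Agent.Nodes.LeviDec
  Cfsg.Agent.KFacts.RgdBorelTits Cfsg.Agent.KFacts.RgdFilt Cfsg.Agent.H1.Over Cfsg.Agent.H1.RgdRow
  Cfsg.Agent.H1.RankTwo Cfsg.Agent.H1.RowExc Cfsg.Agent.H1.RowChev Cfsg.Agent.H1.QsNode Cfsg.Agent.H1.TopPSL
open Cfsg.Agent.Nodes.RGDChev Cfsg.Agent.BiChar.RankPar Cfsg.Agent.BiChar
open Cfsg.Agent.ChevalleyStructure Cfsg.Agent.ChevalleyStructure.Elts Cfsg.Agent.ChevalleyStructure.NPerm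
  Cfsg.Agent.ChevalleyStructure.RootVec Cfsg.Agent.Nodes.RGDFoldSL
open scoped commutatorElement

universe u v w

section general

variable {D : ChevalleyDatum} (hD : InList D) {K : Type u} [Field K]

include hD

/-- the torus element `h_i(c)` moves the root group `X_s` -/
theorem tor_le {i s : ℕ} (hi : i < D.rank) (hs : s < D.nroots) {c : K} (hc : c ≠ 0) (hcs : c ^ D.cartan i s ≠ 1)
    {E : Subgroup (GL D.Idx K)} (h1 : D.rootSubgroup K (D.simple i) ≤ E)
    (h2 : D.rootSubgroup K (D.neg (D.simple i)) ≤ E) (h3 : D.rootSubgroup K s ≤ E) :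
    D.rootSubgroup K s ≤ ⁅E, E⁆ := by
  intro g hg
  obtain ⟨u, rfl⟩ := (mem_rootSubgroup_iff hD _ g).1 hg
  have hh : hG hD (D.simple i) c ∈ E := by
    refine mem_of_xG_mem hD ?_
    intro p hp
    have : p = (D.simple i, c) ∨ p = (D.neg (D.simple i), -c⁻¹) ∨ p = (D.simple i, (-1 : K)) ∨
        p = (D.neg (D.simple i), -(-1 : K)⁻¹) := by
      unfold ChevalleyDatum.hWord ChevalleyDatum.nWord at hp
      simp only [List.mem_append, List.mem_cons, List.not_mem_nil, or_false] at hp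
      tauto
    rcases this with rfl | rfl | rfl | rfl
    · exact h1 (xG_mem_rootSubgroup hD _ _)
    · exact h2 (xG_mem_rootSubgroup hD _ _)
    · exact h1 (xG_mem_rootSubgroup hD _ _)
    · exact h2 (xG_mem_rootSubgroup hD _ _)
  set m := c ^ D.cartan i s with hm
  have hm1 : m - 1 ≠ 0 := sub_ne_zero.2 hcs
  have h4 : xG hD s u = ⁅hG hD (D.simple i) c, xG hD s (u / (m - 1))⁆ := by
    rw [commutatorElement_def, BruhatSplit.hG_simple_conj hD hi hs hc, xG_inv, xG_add, ← hm]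
    congr 1
    field_simp
    ring
  rw [h4]
  exact Subgroup.commutator_mem_commutator hh (h3 (xG_mem_rootSubgroup hD _ _))

end general

section gen2

variable {D : ChevalleyDatum} {l : ℕ} {M : CoxeterMatrix (Fin l)} (hp : IsType D l M) {K : Type u} [Field K]

include hp

/-- a root group that is a commutator -/
theorem com_le {r s v : ℕ} {C : ℤ} (hr : r < D.nroots) (hs : s < D.nroots) (hrs : s ≠ r) (hneg : s ≠ D.neg r)
    (hC : (C : K) ≠ 0) (hT : D.commTerms r s = [(v, C, 1, 1)]) {E : Subgroup (GL D.Idx K)}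
    (h1 : D.rootSubgroup K r ≤ E) (h2 : D.rootSubgroup K s ≤ E) : D.rootSubgroup K v ≤ ⁅E, E⁆ := by
  intro g hg
  obtain ⟨u, rfl⟩ := (mem_rootSubgroup_iff hp.inList _ g).1 hg
  have h3 := comm_xG hp (K := K) hr hs hrs hneg (-(u / C)) 1
  have h4 : wordG hp.inList (D.commWord K r s (-(u / C)) 1) = xG hp.inList v u := by
    unfold ChevalleyDatum.commWord
    rw [hT, List.map_cons, List.map_nil, wordG_cons, wordG_nil, mul_one]
    congr 1
    simp only
    field_simp
  rw [← h4, ← h3]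
  exact Subgroup.commutator_mem_commutator (inv_mem (h2 (xG_mem_rootSubgroup hp.inList _ _)))
    (inv_mem (h1 (xG_mem_rootSubgroup hp.inList _ _)))

end gen2

section GTwo

variable {K : Type} [Field K] [Fintype K] [CharP K 2]

theorem intCast_ne {C : ℤ} (h : C % 2 = 1) : (C : K) ≠ 0 := by
  intro h0
  rw [CharP.intCast_eq_zero_iff K 2] at h0
  obtain ⟨k, hk⟩ := h0
  push_cast at hk
  omega

theorem comm_a9 : chevG2.commTerms 7 9 = [(10, 3, 1, 1)] := by decide +kernel
theorem comm_89 : chevG2.commTerms 8 9 = [(11, 3, 1, 1)] := by decide +kernel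
theorem comm_48 : chevG2.commTerms 4 8 = [(6, -3, 1, 1)] := by decide +kernel
theorem comm_76 : chevG2.commTerms 7 6 = [(8, -1, 1, 1), (9, 1, 2, 1), (10, 1, 3, 1), (11, 1, 3, 2)] := by
  decide +kernel

theorem exists_ne (h4 : 4 ≤ Fintype.card K) : ∃ c : K, c ≠ 0 ∧ c ≠ 1 := by
  classical
  by_contra h
  push Not at h
  have h1 : (Finset.univ : Finset K) ⊆ {0, 1} := by
    intro x _
    by_cases hx : x = 0
    · simp [hx]
    · simp [h x hx]
  have h2 := Finset.card_le_card h1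
  rw [Finset.card_univ] at h2
  have h3 : ({0, 1} : Finset K).card ≤ 2 := Finset.card_le_two
  omega

theorem zpow_ne {c : K} (h1 : c ≠ 1) {m : ℤ} (hm : m = 1 ∨ m = -1 ∨ m = 2 ∨ m = -2) : c ^ m ≠ 1 := by
  have hsq : c ^ 2 ≠ 1 := by
    intro h
    have h2 : (c - 1) ^ 2 = 0 := by
      rw [sub_sq, h, one_pow, mul_one, CharTwo.two_eq_zero, zero_mul, sub_zero, CharTwo.add_self_eq_zero]
    exact h1 (sub_eq_zero.1 ((pow_eq_zero_iff (two_ne_zero)).1 h2))
  rcases hm with rfl | rfl | rfl | rfl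
  · rwa [zpow_one]
  · rw [zpow_neg, zpow_one]
    exact fun h => h1 (inv_eq_one.1 h)
  · exact_mod_cast hsq
  · rw [zpow_neg]
    exact fun h => hsq (by exact_mod_cast inv_eq_one.1 h)

theorem all_zero (h4 : 4 ≤ Fintype.card K) {E : Subgroup (GL chevG2.Idx K)}
    (hE : ∀ r, 6 ≤ r → r < 12 → chevG2.rootSubgroup K r ≤ E) (hn : chevG2.rootSubgroup K 4 ≤ E) :
    (∀ r, 6 ≤ r → r < 12 → chevG2.rootSubgroup K r ≤ ⁅E, E⁆) ∧ chevG2.rootSubgroup K 4 ≤ ⁅E, E⁆ := by
  have hp : IsType chevG2 2 CoxeterMatrix.G₂ := GTwo.isType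
  obtain ⟨c, hc0, hc1⟩ := exists_ne h4
  have ht : ∀ s, s < 12 → (chevG2.cartan 0 s = 1 ∨ chevG2.cartan 0 s = -1 ∨ chevG2.cartan 0 s = 2 ∨ chevG2.cartan 0 s = -2) →
      chevG2.rootSubgroup K s ≤ E → chevG2.rootSubgroup K s ≤ ⁅E, E⁆ := by
    intro s hs hm h3
    have e1 : chevG2.simple 0 = 7 := by decide +kernel
    have e2 : chevG2.neg 7 = 4 := by decide +kernel
    refine tor_le hp.inList (i := 0) (by decide +kernel) (lt_of_lt_of_eq hs (by decide +kernel)) hc0 (zpow_ne hc1 hm) ?_ ?_ h3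
    · rw [e1]
      exact hE 7 (by norm_num) (by norm_num)
    · rw [e1, e2]
      exact hn
  refine ⟨fun r h6 h12 => ?_, ht 4 (by norm_num) (by decide +kernel) hn⟩
  interval_cases r
  · exact com_le hp (r := 4) (s := 8) (by decide +kernel) (by decide +kernel) (by decide +kernel) (by decide +kernel)
      (intCast_ne (by decide)) comm_48 hn (hE 8 (by norm_num) (by norm_num))
  · exact ht 7 (by norm_num) (by decide +kernel) (hE 7 (by norm_num) (by norm_num))
  · exact ht 8 (by norm_num) (by decide +kernel) (hE 8 (by norm_num) (by norm_num))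
  · exact ht 9 (by norm_num) (by decide +kernel) (hE 9 (by norm_num) (by norm_num))
  · exact com_le hp (r := 7) (s := 9) (by decide +kernel) (by decide +kernel) (by decide +kernel) (by decide +kernel)
      (intCast_ne (by decide)) comm_a9 (hE 7 (by norm_num) (by norm_num)) (hE 9 (by norm_num) (by norm_num))
  · exact com_le hp (r := 8) (s := 9) (by decide +kernel) (by decide +kernel) (by decide +kernel) (by decide +kernel)
      (intCast_ne (by decide)) comm_89 (hE 8 (by norm_num) (by norm_num)) (hE 9 (by norm_num) (by norm_num))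

theorem all_one (h4 : 4 ≤ Fintype.card K) {E : Subgroup (GL chevG2.Idx K)}
    (hE : ∀ r, 6 ≤ r → r < 12 → chevG2.rootSubgroup K r ≤ E) (hn : chevG2.rootSubgroup K 5 ≤ E) :
    (∀ r, 6 ≤ r → r < 12 → chevG2.rootSubgroup K r ≤ ⁅E, E⁆) ∧ chevG2.rootSubgroup K 5 ≤ ⁅E, E⁆ := by
  have hp : IsType chevG2 2 CoxeterMatrix.G₂ := GTwo.isType
  obtain ⟨c, hc0, hc1⟩ := exists_ne h4
  have ht : ∀ s, s < 12 → (chevG2.cartan 1 s = 1 ∨ chevG2.cartan 1 s = -1 ∨ chevG2.cartan 1 s = 2 ∨ chevG2.cartan 1 s = -2) →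
      chevG2.rootSubgroup K s ≤ E → chevG2.rootSubgroup K s ≤ ⁅E, E⁆ := by
    intro s hs hm h3
    have e1 : chevG2.simple 1 = 6 := by decide +kernel
    have e2 : chevG2.neg 6 = 5 := by decide +kernel
    refine tor_le hp.inList (i := 1) (by decide +kernel) (lt_of_lt_of_eq hs (by decide +kernel)) hc0 (zpow_ne hc1 hm) ?_ ?_ h3
    · rw [e1]
      exact hE 6 (by norm_num) (by norm_num)
    · rw [e1, e2]
      exact hn
  have h8 := ht 8 (by norm_num) (by decide +kernel) (hE 8 (by norm_num) (by norm_num))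
  have h10 := ht 10 (by norm_num) (by decide +kernel) (hE 10 (by norm_num) (by norm_num))
  have h11 := ht 11 (by norm_num) (by decide +kernel) (hE 11 (by norm_num) (by norm_num))
  refine ⟨fun r h6 h12 => ?_, ht 5 (by norm_num) (by decide +kernel) hn⟩
  interval_cases r
  · exact ht 6 (by norm_num) (by decide +kernel) (hE 6 (by norm_num) (by norm_num))
  · exact ht 7 (by norm_num) (by decide +kernel) (hE 7 (by norm_num) (by norm_num))
  · exact h8
  · intro g hg
    obtain ⟨u, rfl⟩ := (mem_rootSubgroup_iff hp.inList _ g).1 hg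
    have h3 := comm_xG hp (K := K) (r := 7) (s := 6) (by decide +kernel) (by decide +kernel) (by decide +kernel)
      (by decide +kernel) (-1) u
    unfold ChevalleyDatum.commWord at h3
    rw [comm_76] at h3
    simp only [List.map_cons, List.map_nil, wordG_cons, wordG_nil, mul_one] at h3
    have h5 : ⁅(xG hp.inList 6 u)⁻¹, (xG hp.inList 7 (-1 : K))⁻¹⁆ ∈ ⁅E, E⁆ :=
      Subgroup.commutator_mem_commutator (inv_mem (hE 6 (by norm_num) (by norm_num) (xG_mem_rootSubgroup hp.inList _ _)))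
        (inv_mem (hE 7 (by norm_num) (by norm_num) (xG_mem_rootSubgroup hp.inList _ _)))
    rw [h3] at h5
    have h6 := (Subgroup.mul_mem_cancel_left _ (h8 (xG_mem_rootSubgroup hp.inList _ _))).1 h5
    have h7 := (Subgroup.mul_mem_cancel_right _ (mul_mem (h10 (xG_mem_rootSubgroup hp.inList _ _))
      (h11 (xG_mem_rootSubgroup hp.inList _ _)))).1 h6
    have e : (((1 : ℤ) : K) * (- -1) ^ 2 * u ^ 1) = u := by push_cast; ring
    rw [e] at h7
    exact h7
  · exact h10
  · exact h11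

theorem perf_chevG2 (h4 : 4 ≤ Fintype.card K) (i : Fin 2) :
    PerfNode CoxeterMatrix.G₂.toCoxeterSystem (IsType.isCartan (M := CoxeterMatrix.G₂) GTwo.isType)
      (fun x => (XV chevG2 2 K x).subgroupOf (chevG2.group K)) i := by
  have hp : IsType chevG2 2 CoxeterMatrix.G₂ := GTwo.isType
  set X : (Fin 2 → ℤ) → Subgroup ↥(chevG2.group K) := fun x => (XV chevG2 2 K x).subgroupOf (chevG2.group K) with hX
  set D := RGD.Sup X (RGD.Pos CoxeterMatrix.G₂.toCoxeterSystem (IsType.isCartan (M := CoxeterMatrix.G₂) GTwo.isType)) ⊔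
    X (-sr i) with hD
  have hmap : ∀ {r : ℕ}, r < chevG2.nroots → X (vec chevG2 2 r) ≤ D → chevG2.rootSubgroup K r ≤ D.map (chevG2.group K).subtype := by
    intro r hr h g hg
    rw [← XV_vec hp K hr] at hg
    exact ⟨⟨g, XV_le_group hp _ hg⟩, h (Subgroup.mem_subgroupOf.2 hg), rfl⟩
  have hback : ∀ {r : ℕ}, r < chevG2.nroots → chevG2.rootSubgroup K r ≤
      ⁅D.map (chevG2.group K).subtype, D.map (chevG2.group K).subtype⁆ → X (vec chevG2 2 r) ≤ ⁅D, D⁆ := by
    intro r hr h g hg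
    have h1 : (g : GL chevG2.Idx K) ∈ chevG2.rootSubgroup K r := by
      rw [← XV_vec hp K hr]
      exact Subgroup.mem_subgroupOf.1 hg
    have h2 := h h1
    rw [← Subgroup.map_commutator] at h2
    obtain ⟨y, hy, he⟩ := h2
    rwa [← Subtype.ext (show (y : GL chevG2.Idx K) = g from he)]
  have hn12 : chevG2.nroots = 12 := by decide +kernel
  have hpos : ∀ r, 6 ≤ r → r < 12 → vec chevG2 2 r ∈
      RGD.Pos CoxeterMatrix.G₂.toCoxeterSystem (IsType.isCartan (M := CoxeterMatrix.G₂) GTwo.isType) := by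
    intro r h6 h12
    refine ⟨isRoot_vec hp _ (by rw [hn12]; exact h12), ?_⟩
    intro k
    rw [vec_apply, Pi.zero_apply]
    have : ∀ r : Fin 6, ∀ k : Fin 2, 0 ≤ rt chevG2 (6 + r) k := by decide +kernel
    have h7 := this ⟨r - 6, by omega⟩ k
    simp only [show 6 + (r - 6) = r by omega] at h7
    exact h7
  have hE : ∀ r, 6 ≤ r → r < 12 → chevG2.rootSubgroup K r ≤ D.map (chevG2.group K).subtype := fun r h6 h12 =>
    hmap (by rw [hn12]; exact h12) (le_sup_of_le_left (RGD.le_Sup (X := X) (hpos r h6 h12)))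
  have hall : (∀ r, 6 ≤ r → r < 12 → chevG2.rootSubgroup K r ≤
        ⁅D.map (chevG2.group K).subtype, D.map (chevG2.group K).subtype⁆) ∧ X (-sr i) ≤ ⁅D, D⁆ := by
    fin_cases i
    · have e : -sr (0 : Fin 2) = vec chevG2 2 4 := by
        funext k
        fin_cases k <;> decide +kernel
      obtain ⟨a, b⟩ := all_zero h4 hE (hmap (by rw [hn12]; norm_num) (by rw [← e]; exact le_sup_right))
      refine ⟨a, ?_⟩
      have := hback (by rw [hn12]; norm_num) b
      rw [← e] at this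
      exact this
    · have e : -sr (1 : Fin 2) = vec chevG2 2 5 := by
        funext k
        fin_cases k <;> decide +kernel
      obtain ⟨a, b⟩ := all_one h4 hE (hmap (by rw [hn12]; norm_num) (by rw [← e]; exact le_sup_right))
      refine ⟨a, ?_⟩
      have := hback (by rw [hn12]; norm_num) b
      rw [← e] at this
      exact this
  refine perfNode_of (fun x hx => ?_) hall.2
  obtain ⟨r, hr, rfl⟩ := (isRoot_iff hp _ x).1 hx.1
  refine hback hr (hall.1 r ?_ (by rw [← hn12]; exact hr))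
  by_contra h6
  have : ∀ r : Fin 6, ∃ k : Fin 2, rt chevG2 r k < 0 := by decide +kernel
  obtain ⟨k, hk⟩ := this ⟨r, by omega⟩
  exact absurd (hx.2 k) (not_le.2 hk)

theorem rowT_chevG2 (h4 : 4 ≤ Fintype.card K) : RowT ↥(chevG2.group K) := by
  have : Finite CoxeterMatrix.G₂.Group := finite_W GTwo.isType CoxeterMatrix.G₂.toCoxeterSystem
  exact rowT_of_rgd (Cfsg.Agent.KFacts.RgdFiltChev.filt (K := K) GTwo.isType CoxeterMatrix.G₂.toCoxeterSystem 2)
    (G1_eq_top GTwo.isType CoxeterMatrix.G₂.toCoxeterSystem) rowL_chevG2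
    (fun J _ => perfJ_of_nodes (RowExc.solvable_diag) (perf_chevG2 h4) J)

/-- **`T ≤ L` in `G₂(q)`, `q ≥ 4` even** -/
theorem rowT_gTwo {G : Type v} [Group G] [Finite G] (h4 : 4 ≤ Fintype.card K) (e : G ≃* ↥(chevG2.group K)) : RowT G :=
  RowT.congr e (rowT_chevG2 h4)

end GTwo

end Cfsg.Agent.H1.TopChev
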