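import Mathlib
import Cfsg.Agent.H1.QsNode
import Cfsg.Agent.H1.WittPerf
import Cfsg.Agent.KFacts.RgdFiltClass

/-!
# Models of Witt frames of index 2, characteristic 2: `ℒ(G, T)` (helper1)
-/

set_option autoImplicit false
set_option linter.unusedSectionVars false

namespace Cfsg.Agent.H1.WittRow

open Cfsg.Agent.ChevalleyStructure.CoxeterGeom Cfsg.Agent.Tits.Roots Cfsg.Agent.Nodes.TypeC
open Cfsg.Agent.Nodes.Comb Cfsg.Agent.Nodes.Reps Cfsg.Agent.Nodes.WittRoot Cfsg.Agent.Nodes.BNOf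
open Cfsg.Agent.TitsThree Cfsg.Agent.TitsThree.Siegel Cfsg.Agent.TitsThree.WittFrame Cfsg.Agent.TitsThree.WittWeyl
open Cfsg.Agent.TitsThree.FrameCN
open Cfsg.Agent.Nodes.WittRGD (Tor nn nn_mem_sup)
open Cfsg.Agent.Nodes.WittAll (AmbT nn_mem)
open Cfsg.Agent.KFacts.Mult.WittW Cfsg.Agent.KFacts.Mult.WittT
open Cfsg.Agent.H1.WittPerf Cfsg.Agent.H1.QsNode Cfsg.Agent.H1.RgdRow
open scoped commutatorElement

universe u v w

variable {F : Type*} [Field F] {V : Type*} [AddCommGroup V] [Module F V] {H : HForm F V}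
  {Fr : Frame H (Fin 2)} {K : Type v} [Group K] (M : Model Fr K)

theorem fin_two_cases {J : Set (Fin 2)} (hJ : J ≠ Set.univ) : J = ∅ ∨ ∃ i, J = {i} := by
  by_cases h0 : J = ∅
  · exact Or.inl h0
  right
  obtain ⟨k, hk⟩ : ∃ k, k ∉ J := by
    by_contra h4
    push Not at h4
    exact hJ (Set.eq_univ_iff_forall.2 h4)
  obtain ⟨j, hj⟩ := Set.nonempty_iff_ne_empty.2 h0
  refine ⟨j, Set.eq_singleton_iff_unique_mem.2 ⟨hj, fun l hl => ?_⟩⟩
  have h1 : j ≠ k := fun h5 => hk (h5 ▸ hj)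
  have h2 : l ≠ k := fun h5 => hk (h5 ▸ hl)
  revert h1 h2
  clear hj hk hl
  revert j k l
  decide

/-- the preimage of a subgroup of `K` -/
def pre (D : Subgroup K) : Subgroup (V ≃ₗ[F] V) := (D.comap M.φ).map M.I.subtype

theorem mem_pre {D : Subgroup K} {g : V ≃ₗ[F] V} (hg : g ∈ M.I) : g ∈ pre M D ↔ M.φ ⟨g, hg⟩ ∈ D := by
  constructor
  · rintro ⟨⟨g', hg'⟩, h1, h2⟩
    have : g' = g := h2
    subst this
    exact h1
  · intro h1
    exact ⟨⟨g, hg⟩, h1, rfl⟩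

theorem le_pre_iff {D : Subgroup K} {x : Fin 2 → ℤ} (hx : rg Fr x ≤ M.I) :
    rg Fr x ≤ pre M D ↔ Cfsg.Agent.Nodes.WittModel.X M x ≤ D := by
  constructor
  · rintro h _ ⟨g, hg, rfl⟩
    exact (mem_pre M g.2).1 (h (Subgroup.mem_subgroupOf.1 hg))
  · intro h g hg
    exact (mem_pre M (hx hg)).2 (h (Cfsg.Agent.Nodes.WittModel.mem_X_of M (hx hg) hg))

theorem pre_comm {D : Subgroup K} : ⁅pre M D, pre M D⁆ ≤ pre M ⁅D, D⁆ := by
  unfold pre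
  rw [← Subgroup.map_commutator]
  refine Subgroup.map_mono ?_
  rw [← Subgroup.map_le_iff_le_comap, Subgroup.map_commutator]
  exact Subgroup.commutator_mono (Subgroup.map_comap_le _ _) (Subgroup.map_comap_le _ _)

theorem X_le_comm {D : Subgroup K} {x : Fin 2 → ℤ} (hx : rg Fr x ≤ M.I) (h : rg Fr x ≤ ⁅pre M D, pre M D⁆) :
    Cfsg.Agent.Nodes.WittModel.X M x ≤ ⁅D, D⁆ :=
  (le_pre_iff M hx).1 (h.trans (pre_comm M))

variable [Finite V] [CharP F 2]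

/-- the node `i` : the root groups lie in the commutator subgroup -/
theorem self_comm (hA : AmbT Fr 2 M.I) {q : Fr.Adm} (hq : q.c ≠ 0) {t : F} (ht : t ≠ 0) (ht1 : t ≠ 1) (hσ : H.σ t = t)
    (i : Fin 2) {D : Subgroup K} (h1 : Cfsg.Agent.Nodes.WittModel.X M (sr i) ≤ D)
    (h2 : Cfsg.Agent.Nodes.WittModel.X M (-sr i) ≤ D) :
    Cfsg.Agent.Nodes.WittModel.X M (sr i) ≤ ⁅D, D⁆ ∧ Cfsg.Agent.Nodes.WittModel.X M (-sr i) ≤ ⁅D, D⁆ := by
  have k1 := (le_pre_iff M (hA.rg_le _)).2 h1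
  have k2 := (le_pre_iff M (hA.rg_le _)).2 h2
  suffices hs : rg Fr (sr i) ≤ ⁅pre M D, pre M D⁆ ∧ rg Fr (-sr i) ≤ ⁅pre M D, pre M D⁆ from
    ⟨X_le_comm M (hA.rg_le _) hs.1, X_le_comm M (hA.rg_le _) hs.2⟩
  fin_cases i
  · rw [Fin.zero_eta, rg_sr_zero] at k1
    rw [Fin.zero_eta, rg_neg_sr_zero] at k2
    rw [Fin.zero_eta, rg_sr_zero, rg_neg_sr_zero]
    exact zero_self k1 k2 ht ht1 hσ
  · rw [Fin.mk_one, rg_sr_one] at k1
    rw [Fin.mk_one, rg_neg_sr_one] at k2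
    rw [Fin.mk_one, rg_sr_one, rg_neg_sr_one]
    exact one_comm hA k1 k2 hq ht (by rw [hσ]; exact sq_ne ht1)

/-- the root `e₀ + e₁` -/
theorem rg_sum : rg Fr ![1, 1] = XG Fr p0 p1 := by
  rw [rg_eq Fr (a := p0) (b := p1) (by unfold Ok; simp)]
  · exact PG_ne Fr (a := p0) (b := p1) (by decide)
  · ext k
    fin_cases k <;> simp [ee, Fin.sum_univ_two, bt_apply, wt_apply]

/-- the root `2e₀` -/
theorem rg_two : rg Fr ![2, 1] = ZG Fr p0 := by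
  rw [rg_eq Fr (a := p0) (b := p0) (by unfold Ok; simp)]
  · exact PG_self Fr p0
  · ext k
    fin_cases k <;> simp [ee, Fin.sum_univ_two, bt_apply, wt_apply]

theorem pos_sum {W : Type*} [Group W] (cs : CoxeterSystem (CoxeterMatrix.B 2) W) :
    (![1, 1] : Fin 2 → ℤ) ∈ RGD.Pos cs (isCartan 2) := by
  refine ⟨(isRoot_iff (cs := cs)).2 ⟨p0, p1, by unfold Ok; simp, ?_⟩, ?_⟩
  · ext k
    fin_cases k <;> simp [ee, Fin.sum_univ_two, bt_apply, wt_apply]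
  · intro k
    fin_cases k <;> simp

theorem pos_two {W : Type*} [Group W] (cs : CoxeterSystem (CoxeterMatrix.B 2) W) :
    (![2, 1] : Fin 2 → ℤ) ∈ RGD.Pos cs (isCartan 2) := by
  refine ⟨(isRoot_iff (cs := cs)).2 ⟨p0, p0, by unfold Ok; simp, ?_⟩, ?_⟩
  · ext k
    fin_cases k <;> simp [ee, Fin.sum_univ_two, bt_apply, wt_apply]
  · intro k
    fin_cases k <;> simp

theorem pos_sr {W : Type*} [Group W] (cs : CoxeterSystem (CoxeterMatrix.B 2) W) (i : Fin 2) :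
    sr i ∈ RGD.Pos cs (isCartan 2) := ⟨isRoot_sr cs _ i, by
  intro k
  by_cases h : k = i
  · rw [h, sr_self]; exact zero_le_one
  · rw [sr_ne h]; exact le_rfl⟩

/-- everything lies in the commutator subgroup -/
theorem all_comm {W : Type*} [Group W] (cs : CoxeterSystem (CoxeterMatrix.B 2) W) (hA : AmbT Fr 2 M.I) {q : Fr.Adm}
    (hq : q.c ≠ 0) {t : F} (ht : t ≠ 0) (ht1 : t ≠ 1) (hσ : H.σ t = t) (i : Fin 2) {D : Subgroup K}
    (h1 : RGD.Sup (Cfsg.Agent.Nodes.WittModel.X M) (RGD.Pos cs (isCartan 2)) ≤ D)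
    (h2 : Cfsg.Agent.Nodes.WittModel.X M (-sr i) ≤ D) :
    RGD.Sup (Cfsg.Agent.Nodes.WittModel.X M) (RGD.Pos cs (isCartan 2)) ≤ ⁅D, D⁆ := by
  have hpre : ∀ x ∈ RGD.Pos cs (isCartan 2), rg Fr x ≤ pre M D := fun x hx =>
    (le_pre_iff M (hA.rg_le _)).2 ((RGD.le_Sup hx).trans h1)
  have a1 := hpre _ (pos_sr cs 0)
  have a2 := hpre _ (pos_sr cs 1)
  have a3 := hpre _ (pos_sum cs)
  have a4 := hpre _ (pos_two cs)
  rw [rg_sr_zero] at a1
  rw [rg_sr_one] at a2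
  rw [rg_sum] at a3
  rw [rg_two] at a4
  have k2 := (le_pre_iff M (hA.rg_le _)).2 h2
  have key : XG Fr p0 n1 ≤ ⁅pre M D, pre M D⁆ ∧ ZG Fr p1 ≤ ⁅pre M D, pre M D⁆ ∧ XG Fr p0 p1 ≤ ⁅pre M D, pre M D⁆ ∧
      ZG Fr p0 ≤ ⁅pre M D, pre M D⁆ := by
    fin_cases i
    · rw [Fin.zero_eta, rg_neg_sr_zero] at k2
      obtain ⟨b1, b2, b3⟩ := zero_all a1 k2 a2 a3 a4 ht ht1 hσ hq
      exact ⟨(zero_self a1 k2 ht ht1 hσ).1, b1, b2, b3⟩
    · rw [Fin.mk_one, rg_neg_sr_one] at k2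
      have ha1 : t * H.σ t ≠ 1 := by rw [hσ]; exact sq_ne ht1
      obtain ⟨b1, b2, b3⟩ := one_all hA a2 k2 a1 a3 hq ht ha1
      exact ⟨b1, (one_comm hA a2 k2 hq ht ha1).1, b2, b3⟩
  refine RGD.Sup_le fun x hx => X_le_comm M (hA.rg_le _) ?_
  rcases pos_cases (Fr := Fr) cs hx.1 hx.2 with e | e | e | e
  · rw [e]; exact key.1
  · rw [e]; exact key.2.1
  · rw [e]; exact key.2.2.1
  · rw [e]; exact key.2.2.2

theorem nn_mem_sup' (hA : AmbT Fr 2 M.I) (q : Fr.Adm) (i : Fin 2) :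
    M.φ ⟨nn Fr q i, nn_mem hA q i⟩ ∈ Cfsg.Agent.Nodes.WittModel.X M (sr i) ⊔ Cfsg.Agent.Nodes.WittModel.X M (-sr i) := by
  unfold Cfsg.Agent.Nodes.WittModel.X
  rw [← Subgroup.map_sup, ← Subgroup.subgroupOf_sup (hA.rg_le _) (hA.rg_le _)]
  exact Subgroup.mem_map_of_mem _ (Subgroup.mem_subgroupOf.2 (nn_mem_sup q i))

open Cfsg.Agent.KFacts.RgdBorelTits Cfsg.Agent.Nodes.RGDLib Cfsg.Agent.KFacts.RgdFilt Cfsg.Agent.KFacts.RgdFiltWitt Cfsg.Agent.Nodes.WittAll in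
/-- **The row of a model of a Witt frame of index two.** -/
theorem row_model (hA : AmbT Fr 2 M.I) {q : Fr.Adm} (hq : q.c ≠ 0) {t : F} (ht : t ≠ 0) (ht1 : t ≠ 1)
    (hσ : H.σ t = t) (hFT : ∀ (T : Subgroup K), Odd (Nat.card T) → Group.IsSolvable T) [Finite K] :
    RowL (fun i : Fin 2 => ↥(Cfsg.Agent.Nodes.WittModel.X M (sr i) ⊔ Cfsg.Agent.Nodes.WittModel.X M (-sr i))) K ∧
      RowT K := by
  have h2p : Fact (Nat.Prime 2) := ⟨Nat.prime_two⟩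
  have : Finite (V ≃ₗ[F] V) := Finite.of_injective (fun g : V ≃ₗ[F] V => (g : V → V)) DFunLike.coe_injective
  have hF : Filt (rgdC hA hq (CoxeterMatrix.B 2).toCoxeterSystem) (F2 (zr Fr) (rg Fr)) :=
    (two hA (T := Nodes.WittRGD.Tor Fr M.I) (fun i => ⟨nn_mem hA q i, Nodes.WittRGD.mono_nn hq i⟩)
      (fun _ ht => ⟨ht.1, ht.2⟩) _).filt
  have hF1 := filt_restrict hF M.I (fun x _ => hA.rg_le x)
    (n' := fun i => (⟨Nodes.WittRGD.nn Fr q i, nn_mem hA q i⟩ : M.I)) (fun _ => rfl)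
    (rgd_restrict (rgdC hA hq _) M.I (fun x _ => hA.rg_le x) (fun i => nn_mem hA q i))
  have hF2 := filt_map hF1 M.φ (rgdC_model M hA hq (CoxeterMatrix.B 2).toCoxeterSystem)
  have hW : Finite (CoxeterMatrix.B 2).Group := finite_W (CoxeterMatrix.B 2).toCoxeterSystem
  have R := rgdC_model M hA hq (CoxeterMatrix.B 2).toCoxeterSystem
  have hG := Nodes.WittModel.G1_eq_top M (by norm_num) (CoxeterMatrix.B 2).toCoxeterSystem
  have hT : Group.IsSolvable (Nodes.WittModel.T M) := hFT _ (by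
    have := R.tcop
    exact Nat.coprime_two_right.1 this)
  have hL : RowL (fun i : Fin 2 => ↥(Cfsg.Agent.Nodes.WittModel.X M (sr i) ⊔ Cfsg.Agent.Nodes.WittModel.X M (-sr i))) K := by
    refine rowL_of_rgd hF2 hG fun J hJ => ?_
    rcases fin_two_cases hJ with rfl | ⟨i, rfl⟩
    · left
      rw [RankTwo.LJ_empty]
      exact hT
    · right
      obtain ⟨k1, k2⟩ := self_comm M hA hq ht ht1 hσ i (D := Nodes.WittModel.X M (sr i) ⊔ Nodes.WittModel.X M (-sr i))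
        le_sup_left le_sup_right
      exact ⟨_, nodeD_qs R hT i (nn_mem_sup' M hA q i) k1 k2, i, ⟨MulEquiv.refl _⟩⟩
  refine ⟨hL, rowT_of_rgd hF2 hG hL fun J _ => perfJ_of_nodes hT (fun i => ⟨?_, ?_⟩) J⟩
  · exact all_comm M _ hA hq ht ht1 hσ i le_sup_left le_sup_right
  · exact (self_comm M hA hq ht ht1 hσ i ((RGD.le_Sup (pos_sr _ i)).trans le_sup_left) le_sup_right).2

end Cfsg.Agent.H1.WittRow
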